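import Cfsg.Agent.Lib.SLThreePresent.Extend

/-!
The order bound from root group data of type `A_2`.
-/

set_option autoImplicit false

namespace CfsgLib.SLThreePresent

open Pointwise

/-- A finite set closed under some elements is closed under the subgroup they generate. -/
theorem smul_mem_of_closure {G α : Type*} [Group G] [MulAction G α] {S : Set α} (hS : S.Finite)
    {A : Set G} (hA : ∀ a ∈ A, ∀ x ∈ S, a • x ∈ S) {g : G} (hg : g ∈ Subgroup.closure A) {x : α}
    (hx : x ∈ S) : g • x ∈ S := by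
  have hstab : g ∈ MulAction.stabilizer G S := by
    refine (Subgroup.closure_le _).2 (fun a ha => ?_) hg
    exact Set.eq_of_subset_of_ncard_le (Set.smul_set_subset_iff.2 fun y hy => hA a ha y hy)
      (by rw [← Set.image_smul, Set.ncard_image_of_injective _ (MulAction.injective a)]) hS
  rw [← MulAction.mem_stabilizer_iff.1 hstab]
  exact Set.smul_mem_smul_set hx

variable {G : Type*} [Group G] {F : Type*} [Field F]

/-- The torus. -/
def torus (h g : G) : Subgroup G := Subgroup.closure {h, g}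

namespace Roots

variable {X Y Z : F → G} {h g w c : G} {ω : F} {n N : ℕ}

section
variable (D : Roots X Y Z h g w c ω n N)
include D

omit D in
theorem h_mem_torus : h ∈ torus h g := Subgroup.subset_closure (by simp)

omit D in
theorem g_mem_torus : g ∈ torus h g := Subgroup.subset_closure (by simp)

theorem torus_eq {t : G} (ht : t ∈ torus h g) : ∃ i j : Fin N, t = h ^ (i : ℕ) * g ^ (j : ℕ) := by
  have hN := D.N_pos
  let S : Set G := Set.range fun ij : Fin N × Fin N => h ^ (ij.1 : ℕ) * g ^ (ij.2 : ℕ)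
  have hmk : ∀ i j : ℕ, h ^ i * g ^ j ∈ S := fun i j =>
    ⟨(⟨i % N, Nat.mod_lt _ hN⟩, ⟨j % N, Nat.mod_lt _ hN⟩), by
      simp only
      rw [← pow_eq_pow_mod i D.h_pow, ← pow_eq_pow_mod j D.g_pow]⟩
  have hS : ∀ a ∈ ({h, g} : Set G), ∀ x ∈ S, a • x ∈ S := by
    rintro a ha _ ⟨⟨i, j⟩, rfl⟩
    rcases ha with rfl | rfl
    · rw [smul_eq_mul, ← mul_assoc, ← pow_succ']; exact hmk _ _
    · rw [smul_eq_mul, ← mul_assoc, ← (D.hg.pow_left (i : ℕ)).eq, mul_assoc, ← pow_succ']
      exact hmk _ _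
  have h1 : t • (1 : G) ∈ S :=
    smul_mem_of_closure (Set.finite_range _) hS ht
      (show (1 : G) ∈ S by simpa using hmk 0 0)
  rw [smul_eq_mul, mul_one] at h1
  obtain ⟨⟨i, j⟩, e⟩ := h1
  exact ⟨i, j, e.symm⟩

theorem torus_conj {d : G} (hdh : d * h * d⁻¹ ∈ torus h g) (hdg : d * g * d⁻¹ ∈ torus h g) {t : G}
    (ht : t ∈ torus h g) : d * t * d⁻¹ ∈ torus h g := by
  have : torus h g ≤ (torus h g).comap (MulAut.conj d).toMonoidHom := by
    rw [torus, Subgroup.closure_le]
    rintro x (rfl | rfl) <;> assumption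
  exact this ht

theorem w_torus {t : G} (ht : t ∈ torus h g) : w * t * w⁻¹ ∈ torus h g :=
  D.torus_conj (D.whw ▸ (torus h g).inv_mem h_mem_torus)
    (D.wgw ▸ (torus h g).mul_mem h_mem_torus g_mem_torus) ht

theorem w_inv_torus {t : G} (ht : t ∈ torus h g) : w⁻¹ * t * w ∈ torus h g := by
  have := D.torus_conj (d := w⁻¹) (by rw [inv_inv, D.w_inv_h]; exact (torus h g).inv_mem h_mem_torus)
    (by rw [inv_inv, D.w_inv_g]; exact (torus h g).mul_mem h_mem_torus g_mem_torus) ht
  rwa [inv_inv] at this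

theorem c_torus {t : G} (ht : t ∈ torus h g) : c * t * c⁻¹ ∈ torus h g :=
  D.torus_conj (D.g_def ▸ g_mem_torus)
    (D.cgc ▸ (torus h g).mul_mem ((torus h g).inv_mem g_mem_torus)
      ((torus h g).inv_mem h_mem_torus)) ht

theorem c_inv_torus {t : G} (ht : t ∈ torus h g) : c⁻¹ * t * c ∈ torus h g := by
  have := D.torus_conj (d := c⁻¹)
    (by rw [inv_inv, D.c_inv_h]
        exact (torus h g).mul_mem ((torus h g).inv_mem g_mem_torus)
          ((torus h g).inv_mem h_mem_torus))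
    (by rw [inv_inv, D.c_inv_g]; exact h_mem_torus) ht
  rwa [inv_inv] at this

theorem v_inv_torus {t : G} (ht : t ∈ torus h g) :
    (c * w * c⁻¹)⁻¹ * t * (c * w * c⁻¹) ∈ torus h g := by
  have := D.c_torus (D.w_inv_torus (D.c_inv_torus ht))
  rwa [show (c * w * c⁻¹)⁻¹ * t * (c * w * c⁻¹) = c * (w⁻¹ * (c⁻¹ * t * c) * w) * c⁻¹ by group]

omit D in
theorem move {φ : F → G} {t : G} {k : F} (hk : k ≠ 0) (hs : Sc t φ k) (a : F) :
    (∃ b, t * φ a = φ b * t) ∧ ∃ b, φ a * t = t * φ b :=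
  ⟨⟨_, hs.swap a⟩, ⟨k⁻¹ * a, by rw [hs.swap, ← mul_assoc, mul_inv_cancel₀ hk, one_mul]⟩⟩

theorem torus_move {φ : F → G} {k₁ k₂ : F} (h1 : Sc h φ k₁) (h2 : Sc g φ k₂) (hk₁ : k₁ ≠ 0)
    (hk₂ : k₂ ≠ 0) {t : G} (ht : t ∈ torus h g) (a : F) :
    (∃ b, t * φ a = φ b * t) ∧ ∃ b, φ a * t = t * φ b := by
  obtain ⟨i, j, rfl⟩ := D.torus_eq ht
  exact move (mul_ne_zero (pow_ne_zero _ hk₁) (pow_ne_zero _ hk₂)) ((h1.pow i).mul (h2.pow j)) a

theorem torus_X {t : G} (ht : t ∈ torus h g) (a : F) :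
    (∃ b, t * X a = X b * t) ∧ ∃ b, X a * t = t * X b :=
  D.torus_move D.hX D.gX (pow_ne_zero _ D.ω_ne) (inv_ne_zero D.ω_ne) ht a

theorem torus_Y {t : G} (ht : t ∈ torus h g) (a : F) :
    (∃ b, t * Y a = Y b * t) ∧ ∃ b, Y a * t = t * Y b :=
  D.torus_move D.hY D.gY (inv_ne_zero D.ω_ne) (pow_ne_zero _ D.ω_ne) ht a

theorem torus_Z {t : G} (ht : t ∈ torus h g) (a : F) :
    (∃ b, t * Z a = Z b * t) ∧ ∃ b, Z a * t = t * Z b :=
  D.torus_move D.hZ D.gZ D.ω_ne D.ω_ne ht a

theorem X_eq_conj {a : F} (ha : a ≠ 0) : ∃ τ ∈ torus h g, X a = τ * X 1 * τ⁻¹ := by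
  obtain ⟨j, rfl⟩ := D.generate a ha
  refine ⟨g⁻¹ ^ j, (torus h g).pow_mem ((torus h g).inv_mem g_mem_torus) j, ?_⟩
  rw [(D.gX.inv (inv_ne_zero D.ω_ne)).pow j, inv_inv, mul_one]

theorem step_all {a : F} (ha : a ≠ 0) :
    ∃ r r' : F, ∃ s ∈ torus h g, w * X a * w = X r * s * w * X r' := by
  obtain ⟨τ, hτ, e⟩ := D.X_eq_conj ha
  obtain ⟨r, r', e1⟩ := D.step
  have h1 : w * τ * w⁻¹ ∈ torus h g := D.w_torus hτ
  have h2 : w⁻¹ * τ⁻¹ * w ∈ torus h g := D.w_inv_torus ((torus h g).inv_mem hτ)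
  obtain ⟨r1, hr1⟩ := (D.torus_X h1 r).1
  obtain ⟨r2, hr2⟩ := (D.torus_X h2 r').2
  refine ⟨r1, r2, w * τ * w⁻¹ * h ^ n * (w * (w⁻¹ * τ⁻¹ * w) * w⁻¹),
    (torus h g).mul_mem ((torus h g).mul_mem h1 ((torus h g).pow_mem h_mem_torus n))
      (D.w_torus h2), ?_⟩
  calc w * X a * w = (w * τ * w⁻¹) * (w * X 1 * w) * (w⁻¹ * τ⁻¹ * w) := by rw [e]; group
    _ = ((w * τ * w⁻¹) * X r) * h ^ n * w * (X r' * (w⁻¹ * τ⁻¹ * w)) := by rw [e1]; group
    _ = _ := by rw [hr1, hr2]; group

/-- The Levi subgroup. -/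
theorem levi_card_le [Fintype F] :
    Finite (Subgroup.closure ({X 1, h, g, w} : Set G)) ∧
      Nat.card (Subgroup.closure ({X 1, h, g, w} : Set G)) ≤
        N * N * (Fintype.card F * (Fintype.card F + 1)) := by
  let T := torus h g
  let f : (Fin N × Fin N) × F × Option F → G
    | (ij, a, none) => X a * (h ^ (ij.1 : ℕ) * g ^ (ij.2 : ℕ))
    | (ij, a, some b) => X a * (h ^ (ij.1 : ℕ) * g ^ (ij.2 : ℕ)) * w * X b
  have hsmall : ∀ a, ∀ t ∈ T, X a * t ∈ Set.range f := fun a t ht => by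
    obtain ⟨i, j, rfl⟩ := D.torus_eq ht
    exact ⟨((i, j), a, none), rfl⟩
  have hbig : ∀ a b, ∀ t ∈ T, X a * t * w * X b ∈ Set.range f := fun a b t ht => by
    obtain ⟨i, j, rfl⟩ := D.torus_eq ht
    exact ⟨((i, j), a, some b), rfl⟩
  have hpair : ∀ i j : ℕ, h ^ i * g ^ j ∈ T := fun i j =>
    T.mul_mem (T.pow_mem h_mem_torus i) (T.pow_mem g_mem_torus j)
  have hA : ∀ e ∈ ({X 1, h, g, w} : Set G), ∀ x ∈ Set.range f, e • x ∈ Set.range f := by
    have ht : ∀ e ∈ T, ∀ x ∈ Set.range f, e * x ∈ Set.range f := by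
      rintro e he _ ⟨⟨⟨i, j⟩, a, o⟩, rfl⟩
      obtain ⟨a', ha'⟩ := (D.torus_X he a).1
      rcases o with _ | b
      · show e * (X a * (h ^ (i : ℕ) * g ^ (j : ℕ))) ∈ _
        rw [← mul_assoc, ha', mul_assoc]
        exact hsmall _ _ (T.mul_mem he (hpair i j))
      · show e * (X a * (h ^ (i : ℕ) * g ^ (j : ℕ)) * w * X b) ∈ _
        rw [← mul_assoc, ← mul_assoc, ← mul_assoc, ha', mul_assoc (X a') e]
        exact hbig _ _ _ (T.mul_mem he (hpair i j))
    rintro e he x hx
    rw [smul_eq_mul]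
    rcases he with rfl | rfl | rfl | rfl
    · obtain ⟨⟨⟨i, j⟩, a, _ | b⟩, rfl⟩ := hx
      · show X 1 * (X a * (h ^ (i : ℕ) * g ^ (j : ℕ))) ∈ _
        rw [← mul_assoc, ← D.map_add]
        exact hsmall _ _ (hpair i j)
      · show X 1 * (X a * (h ^ (i : ℕ) * g ^ (j : ℕ)) * w * X b) ∈ _
        rw [← mul_assoc, ← mul_assoc, ← mul_assoc, ← D.map_add]
        exact hbig _ _ _ (hpair i j)
    · exact ht _ h_mem_torus x hx
    · exact ht _ g_mem_torus x hx
    · obtain ⟨⟨⟨i, j⟩, a, o⟩, rfl⟩ := hx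
      set t := h ^ (i : ℕ) * g ^ (j : ℕ) with htdef
      rcases o with _ | b
      · show e * (X a * t) ∈ _
        obtain ⟨a', ha'⟩ := (D.torus_X (hpair i j) a).2
        rw [ha', show e * (t * X a') = 1 * (e * t * e⁻¹) * e * X a' by group, ← D.X_zero]
        exact hbig _ _ _ (D.w_torus (hpair i j))
      · show e * (X a * t * e * X b) ∈ _
        have ht' : e⁻¹ * t * e ∈ T := D.w_inv_torus (hpair i j)
        obtain ⟨b', hb'⟩ := (D.torus_X ht' b).1
        have e1 : e * (X a * t * e * X b) = e * X a * e * X b' * (e⁻¹ * t * e) := by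
          calc _ = e * X a * e * ((e⁻¹ * t * e) * X b) := by group
            _ = _ := by rw [hb']; group
        rw [e1]
        rcases eq_or_ne a 0 with rfl | ha
        · obtain ⟨b'', hb''⟩ := (D.torus_X (T.pow_mem h_mem_torus n) b').1
          rw [D.X_zero, mul_one, D.w_sq, hb'', mul_assoc]
          exact hsmall _ _ (T.mul_mem (T.pow_mem h_mem_torus n) ht')
        · obtain ⟨r, r', s, hs, es⟩ := D.step_all ha
          obtain ⟨b'', hb''⟩ := (D.torus_X ht' (r' + b')).2
          rw [es, mul_assoc (X r * s * e) (X r'), ← D.map_add, mul_assoc, hb'',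
            show X r * s * e * (e⁻¹ * t * e * X b'') = X r * (s * t) * e * X b'' by group]
          exact hbig _ _ _ (T.mul_mem hs (hpair i j))
  have hsub : (Subgroup.closure ({X 1, h, g, w} : Set G) : Set G) ⊆ Set.range f := by
    intro x hx
    have h1 := smul_mem_of_closure (Set.finite_range f) hA hx (x := (1 : G))
      (by have := hsmall 0 1 T.one_mem; rwa [D.X_zero, mul_one] at this)
    rwa [smul_eq_mul, mul_one] at h1
  refine ⟨((Set.finite_range f).subset hsub).to_subtype, ?_⟩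
  refine (Nat.card_mono (Set.finite_range f) hsub).trans ((Finite.card_range_le f).trans ?_)
  rw [Nat.card_prod, Nat.card_prod, Nat.card_prod, Nat.card_fin, Nat.card_eq_fintype_card,
    Nat.card_eq_fintype_card, Fintype.card_option]

/-- The order bound. -/
theorem card_le [Fintype F] (E : Comms X Y Z)
    (hgen : Subgroup.closure ({X 1, h, w, c} : Set G) = ⊤) :
    Finite G ∧ Nat.card G ≤ (Fintype.card F ^ 2 + Fintype.card F + 1) *
      (Fintype.card F ^ 2 * (N * N * (Fintype.card F * (Fintype.card F + 1)))) := by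
  obtain ⟨hLfin, hLcard⟩ := D.levi_card_le
  set L := Subgroup.closure ({X 1, h, g, w} : Set G) with hL
  let NN : Subgroup G :=
    { carrier := Set.range fun ab : F × F => Z ab.1 * Y ab.2
      mul_mem' := by
        rintro _ _ ⟨⟨a, b⟩, rfl⟩ ⟨⟨a', b'⟩, rfl⟩
        refine ⟨(a + a', b + b'), ?_⟩
        simp only
        rw [D.Z_add, D.Y_add, mul_assoc, ← mul_assoc (Z a'), ← (E.col b a').eq]
        group
      one_mem' := ⟨(0, 0), by simp [D.Z_zero, D.Y_zero]⟩
      inv_mem' := by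
        rintro _ ⟨⟨a, b⟩, rfl⟩
        refine ⟨(-a, -b), ?_⟩
        simp only
        rw [mul_inv_rev, ← D.Y_neg, ← D.Z_neg, (E.col _ _).eq] }
  have hNmem : ∀ a b, Z a * Y b ∈ NN := fun a b => ⟨(a, b), rfl⟩
  have hNZ : ∀ a, Z a ∈ NN := fun a => by simpa [D.Y_zero] using hNmem a 0
  have hNY : ∀ b, Y b ∈ NN := fun b => by simpa [D.Z_zero] using hNmem 0 b
  haveI hNfin : Finite (NN : Set G) := (Set.finite_range _).to_subtype
  have hnorm : L ≤ Subgroup.normalizer (NN : Set G) := by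
    rw [hL, Subgroup.closure_le]
    intro e he
    refine Subgroup.mem_normalizer_fintype (S := (NN : Set G)) ?_
    rintro _ ⟨⟨a, b⟩, rfl⟩
    show e * (Z a * Y b) * e⁻¹ ∈ NN
    rw [show e * (Z a * Y b) * e⁻¹ = (e * Z a * e⁻¹) * (e * Y b * e⁻¹) by group]
    rcases he with rfl | rfl | rfl | rfl
    · rw [(E.row 1 a).eq, mul_inv_cancel_right, E.form]
      exact NN.mul_mem (hNZ _) (NN.mul_mem (hNZ _) (hNY _))
    · rw [D.hZ, D.hY]; exact hNmem _ _
    · rw [D.gZ, D.gY]; exact hNmem _ _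
    · rw [D.wZw, ← D.Z_def]; exact NN.mul_mem (hNY _) (hNZ _)
  set P := NN ⊔ L with hP
  have hPN : ∀ a b, Z a * Y b ∈ P := fun a b => Subgroup.mem_sup_left (hNmem a b)
  have hPZ : ∀ a, Z a ∈ P := fun a => Subgroup.mem_sup_left (hNZ a)
  have hPY : ∀ a, Y a ∈ P := fun a => Subgroup.mem_sup_left (hNY a)
  have hPgen : ∀ e ∈ ({X 1, h, g, w} : Set G), e ∈ P := fun e he =>
    Subgroup.mem_sup_right (Subgroup.subset_closure he)
  have hPh : h ∈ P := hPgen _ (by simp)
  have hPg : g ∈ P := hPgen _ (by simp)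
  have hPw : w ∈ P := hPgen _ (by simp)
  have hPT : ∀ t ∈ torus h g, t ∈ P := fun t ht => by
    refine (Subgroup.closure_le (K := P)).2 ?_ ht
    rintro x (rfl | rfl) <;> assumption
  have hPX : ∀ a, X a ∈ P := fun a => by
    rcases eq_or_ne a 0 with rfl | ha
    · rw [D.X_zero]; exact P.one_mem
    · obtain ⟨τ, hτ, e⟩ := D.X_eq_conj ha
      rw [e]
      exact P.mul_mem (P.mul_mem (hPT _ hτ) (hPgen _ (by simp))) (P.inv_mem (hPT _ hτ))
  set v := c * w * c⁻¹ with hv
  have hv1 : v = w⁻¹ * (g ^ n * c) := by rw [← D.wvc, hv]; group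
  have hcg : c⁻¹ * g ^ n * c = h ^ n := by
    rw [← D.c_inv_g]
    have := (map_pow (MulAut.conj c⁻¹) g n)
    simp only [MulAut.conj_apply, inv_inv] at this
    exact this
  have vX : ∀ a, v⁻¹ * X a * v = Z a := fun a => by
    have h1 : w * X a * w⁻¹ = c * Z (-a) * c⁻¹ := by rw [D.c_Z, neg_neg]
    calc v⁻¹ * X a * v = c⁻¹ * (g ^ n)⁻¹ * (w * X a * w⁻¹) * g ^ n * c := by rw [hv1]; group
      _ = (c⁻¹ * g ^ n * c)⁻¹ * Z (-a) * (c⁻¹ * g ^ n * c) := by rw [h1]; group
      _ = Z a := by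
          have h2 := ((D.hZ.pow n).inv (pow_ne_zero _ D.ω_ne)) (-a)
          rw [inv_inv] at h2
          rw [hcg, h2, D.ω_n, inv_neg, inv_one, neg_one_mul, neg_neg]
  have vZ : ∀ a, v⁻¹ * Z a * v = X (-a) := fun a => by
    calc v⁻¹ * Z a * v = c⁻¹ * (g ^ n)⁻¹ * (w * Z a * w⁻¹) * g ^ n * c := by rw [hv1]; group
      _ = (c⁻¹ * g ^ n * c)⁻¹ * X (-a) * (c⁻¹ * g ^ n * c) := by
          rw [D.wZw, D.Y_def]; group
      _ = X (-a) := by
          have h2 := ((D.hX.pow n).inv (pow_ne_zero _ (pow_ne_zero _ D.ω_ne))) (-a)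
          rw [inv_inv] at h2
          rw [hcg, h2, ← pow_mul, D.ω_two_n, inv_one, one_mul]
  have vv : v * v = g ^ n := by
    rw [hv, show c * w * c⁻¹ * (c * w * c⁻¹) = c * (w * w) * c⁻¹ by group, D.w_sq, ← D.g_def,
      ← MulAut.conj_apply, map_pow, MulAut.conj_apply]
  have braid : v * w * v = (g ^ n)⁻¹ * (w * v) * (w * h ^ n) := by
    calc v * w * v = c * w * c⁻¹ * (w * v) := by rw [hv]; group
      _ = c * w * (c⁻¹ * g ^ n * c) := by rw [hv, D.wvc]; group
      _ = c * (w * h ^ n) := by rw [hcg, mul_assoc]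
      _ = _ := by rw [hv, D.wvc]; group
  -- the cosets
  let Ω : Set (G ⧸ P) := {((1 : G) : G ⧸ P)} ∪
    (Set.range (fun b : F => ((Y b * v : G) : G ⧸ P)) ∪
      Set.range (fun ab : F × F => ((X ab.1 * w * Y ab.2 * v : G) : G ⧸ P)))
  have hone : ((1 : G) : G ⧸ P) ∈ Ω := Or.inl rfl
  have hΩfin : Ω.Finite := (Set.finite_singleton _).union
    ((Set.finite_range _).union (Set.finite_range _))
  have mP : ∀ p ∈ P, ((p : G) : G ⧸ P) ∈ Ω := fun p hp => by
    rw [← one_mul p, QuotientGroup.mk_mul_of_mem _ hp]; exact hone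
  have mB : ∀ b, ∀ t ∈ torus h g, ∀ p ∈ P, ((t * Y b * v * p : G) : G ⧸ P) ∈ Ω := by
    intro b t ht p hp
    obtain ⟨b', hb'⟩ := (D.torus_Y ht b).1
    rw [QuotientGroup.mk_mul_of_mem _ hp, hb',
      show Y b' * t * v = Y b' * v * (v⁻¹ * t * v) by group,
      QuotientGroup.mk_mul_of_mem _ (hPT _ (D.v_inv_torus ht))]
    exact Or.inr (Or.inl ⟨b', rfl⟩)
  have mC : ∀ a b, ∀ t ∈ torus h g, ∀ p ∈ P,
      ((X a * t * w * Y b * v * p : G) : G ⧸ P) ∈ Ω := by
    intro a b t ht p hp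
    have ht' : w⁻¹ * t * w ∈ torus h g := D.w_inv_torus ht
    obtain ⟨b', hb'⟩ := (D.torus_Y ht' b).1
    rw [QuotientGroup.mk_mul_of_mem _ hp,
      show X a * t * w * Y b * v = X a * w * ((w⁻¹ * t * w) * Y b) * v by group, hb',
      show X a * w * (Y b' * (w⁻¹ * t * w)) * v =
        X a * w * Y b' * v * (v⁻¹ * (w⁻¹ * t * w) * v) by group,
      QuotientGroup.mk_mul_of_mem _ (hPT _ (D.v_inv_torus ht'))]
    exact Or.inr (Or.inr ⟨(a, b'), rfl⟩)
  have hT1 := (torus h g).one_mem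
  have hA : ∀ e ∈ ({X 1, h, g, w, v} : Set G), ∀ x ∈ Ω, e • x ∈ Ω := by
    have htor : ∀ e ∈ torus h g, ∀ x ∈ Ω, e • x ∈ Ω := by
      rintro e he x (rfl | ⟨b, rfl⟩ | ⟨⟨a, b⟩, rfl⟩)
      · rw [MulAction.Quotient.smul_coe, smul_eq_mul, mul_one]; exact mP _ (hPT _ he)
      · rw [MulAction.Quotient.smul_coe, smul_eq_mul]
        have := mB b e he 1 P.one_mem
        rwa [mul_one, mul_assoc] at this
      · rw [MulAction.Quotient.smul_coe, smul_eq_mul]
        obtain ⟨a', ha'⟩ := (D.torus_X he a).1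
        have := mC a' b e he 1 P.one_mem
        rw [mul_one, ← ha'] at this
        simpa only [mul_assoc] using this
    rintro e he x hx
    rcases he with rfl | rfl | rfl | rfl | rfl
    · -- the root element
      rcases hx with rfl | ⟨b, rfl⟩ | ⟨⟨a, b⟩, rfl⟩
      · rw [MulAction.Quotient.smul_coe, smul_eq_mul, mul_one]; exact mP _ (hPX 1)
      · rw [MulAction.Quotient.smul_coe, smul_eq_mul]
        have h1 : X 1 * (Y b * v) = 1 * Y b * v * ((v⁻¹ * Z b * v) * (v⁻¹ * X 1 * v)) := by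
          calc X 1 * (Y b * v) = (X 1 * Y b * (X 1)⁻¹) * X 1 * v := by group
            _ = _ := by rw [E.form, one_mul, ← (E.col b b).eq]; group
        rw [h1]
        refine mB _ _ hT1 _ (P.mul_mem ?_ ?_)
        · rw [vZ]; exact hPX _
        · rw [vX]; exact hPZ _
      · rw [MulAction.Quotient.smul_coe, smul_eq_mul]
        have := mC (1 + a) b 1 hT1 1 P.one_mem
        rw [mul_one, mul_one, D.map_add] at this
        simpa only [mul_assoc] using this
    · exact htor _ h_mem_torus x hx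
    · exact htor _ g_mem_torus x hx
    · -- the first Weyl element
      rcases hx with rfl | ⟨b, rfl⟩ | ⟨⟨a, b⟩, rfl⟩
      · rw [MulAction.Quotient.smul_coe, smul_eq_mul, mul_one]; exact mP _ hPw
      · rw [MulAction.Quotient.smul_coe, smul_eq_mul]
        have := mC 0 b 1 hT1 1 P.one_mem
        rw [mul_one, D.X_zero, one_mul, one_mul] at this
        simpa only [mul_assoc] using this
      · rw [MulAction.Quotient.smul_coe, smul_eq_mul]
        rcases eq_or_ne a 0 with rfl | ha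
        · have := mB b _ ((torus h g).pow_mem h_mem_torus n) 1 P.one_mem
          rw [mul_one, ← D.w_sq] at this
          simpa only [D.X_zero, one_mul, mul_assoc] using this
        · obtain ⟨r, r', s, hs, es⟩ := D.step_all ha
          have h1 : e * (X a * e * Y b * v) =
              X r * s * e * Y b * v * ((v⁻¹ * Z (r' * b) * v) * (v⁻¹ * X r' * v)) := by
            calc e * (X a * e * Y b * v) = e * X a * e * Y b * v := by group
              _ = X r * s * e * (X r' * Y b * (X r')⁻¹) * X r' * v := by rw [es]; group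
              _ = _ := by rw [E.form, ← (E.col b (r' * b)).eq]; group
          rw [h1]
          refine mC _ _ _ hs _ (P.mul_mem ?_ ?_)
          · rw [vZ]; exact hPX _
          · rw [vX]; exact hPZ _
    · -- the second Weyl element
      rcases hx with rfl | ⟨b, rfl⟩ | ⟨⟨a, b⟩, rfl⟩
      · rw [MulAction.Quotient.smul_coe, smul_eq_mul, mul_one]
        exact Or.inr (Or.inl ⟨0, by simp only [D.Y_zero, one_mul]⟩)
      · rw [MulAction.Quotient.smul_coe, smul_eq_mul]
        rcases eq_or_ne b 0 with rfl | hb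
        · rw [D.Y_zero, one_mul, vv]; exact mP _ (P.pow_mem hPg n)
        · obtain ⟨r, r', s, hs, es⟩ := D.step_all hb
          obtain ⟨r1, hr1⟩ := (D.torus_Y (D.c_torus hs) r).2
          have h1 : v * (Y b * v) = (c * s * c⁻¹) * Y r1 * v * Y r' := by
            calc v * (Y b * v) = c * (w * X b * w) * c⁻¹ := by rw [hv, D.Y_def]; group
              _ = Y r * (c * s * c⁻¹) * v * Y r' := by rw [es, D.Y_def, D.Y_def, hv]; group
              _ = _ := by rw [hr1]
          rw [h1]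
          exact mB _ _ (D.c_torus hs) _ (hPY _)
      · rw [MulAction.Quotient.smul_coe, smul_eq_mul]
        have hn : (g ^ n)⁻¹ ∈ torus h g := (torus h g).inv_mem ((torus h g).pow_mem g_mem_torus n)
        have hva : v * X a * v⁻¹ = Z (-a) := by
          rw [← neg_neg a, ← vZ, neg_neg]; group
        have hvb : v * Z b * v⁻¹ = X b := by rw [← vX]; group
        obtain ⟨a1, ha1⟩ := (D.torus_Z hn (-a)).2
        have h1 : v * (X a * w * Y b * v) =
            X b * (g ^ n)⁻¹ * w * Y a1 * v * (w * h ^ n) := by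
          calc v * (X a * w * Y b * v) = (v * X a * v⁻¹) * (v * (w * Y b * w⁻¹) * v⁻¹) *
                (v * w * v) := by group
            _ = Z (-a) * X b * ((g ^ n)⁻¹ * (w * v) * (w * h ^ n)) := by
                rw [hva, ← D.Z_def, hvb, braid]
            _ = X b * (Z (-a) * (g ^ n)⁻¹) * (w * v) * (w * h ^ n) := by
                rw [← (E.row b (-a)).eq]; group
            _ = _ := by rw [ha1, D.Z_def]; group
        rw [h1]
        exact mC _ _ _ hn _ (P.mul_mem hPw (P.pow_mem hPh n))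
  have hKtop : Subgroup.closure ({X 1, h, g, w, v} : Set G) = ⊤ := by
    rw [← top_le_iff, ← hgen, Subgroup.closure_le]
    set K := Subgroup.closure ({X 1, h, g, w, v} : Set G)
    have hwK : w ∈ K := Subgroup.subset_closure (by simp)
    have hgK : g ∈ K := Subgroup.subset_closure (by simp)
    have hvK : v ∈ K := Subgroup.subset_closure (by simp)
    have hcK : c ∈ K := by
      rw [show c = (g ^ n)⁻¹ * (w * v) by rw [hv, D.wvc, inv_mul_cancel_left]]
      exact K.mul_mem (K.inv_mem (K.pow_mem hgK n)) (K.mul_mem hwK hvK)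
    rintro x (rfl | rfl | rfl | rfl)
    exacts [Subgroup.subset_closure (by simp), Subgroup.subset_closure (by simp), hwK, hcK]
  have huniv : (Set.univ : Set (G ⧸ P)) ⊆ Ω := by
    intro x _
    obtain ⟨y, rfl⟩ := QuotientGroup.mk_surjective x
    have hy : y ∈ Subgroup.closure ({X 1, h, g, w, v} : Set G) := hKtop ▸ Subgroup.mem_top y
    have h1 := smul_mem_of_closure hΩfin hA hy hone
    rwa [MulAction.Quotient.smul_coe, smul_eq_mul, mul_one] at h1
  haveI : Finite (G ⧸ P) := Set.finite_univ_iff.1 (hΩfin.subset huniv)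
  have hidx : Nat.card (G ⧸ P) ≤ Fintype.card F ^ 2 + Fintype.card F + 1 := by
    rw [← Set.ncard_univ]
    refine (Set.ncard_le_ncard huniv hΩfin).trans ((Set.ncard_union_le _ _).trans ?_)
    rw [Set.ncard_singleton]
    refine le_trans (Nat.add_le_add_left (Set.ncard_union_le _ _) 1) ?_
    rw [← Nat.card_coe_set_eq, ← Nat.card_coe_set_eq]
    refine le_trans (Nat.add_le_add_left
      (Nat.add_le_add (Finite.card_range_le _) (Finite.card_range_le _)) 1) ?_
    rw [Nat.card_prod, Nat.card_eq_fintype_card (α := F), sq]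
    omega
  have hcoe : (P : Set G) = (NN : Set G) * (L : Set G) := by
    rw [hP, sup_comm]
    rw [sup_comm, Subgroup.coe_mul_of_right_le_normalizer_left NN L hnorm]
  have hPfin : (P : Set G).Finite := by
    rw [hcoe]; exact Set.Finite.mul (Set.toFinite _) (Set.toFinite _)
  haveI : Finite P := hPfin.to_subtype
  have hPcard : Nat.card P ≤
      Fintype.card F ^ 2 * (N * N * (Fintype.card F * (Fintype.card F + 1))) := by
    change Nat.card (P : Set G) ≤ _
    rw [hcoe]
    refine Set.natCard_mul_le.trans (Nat.mul_le_mul ?_ hLcard)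
    refine (Finite.card_range_le (fun ab : F × F => Z ab.1 * Y ab.2)).trans ?_
    rw [Nat.card_prod, Nat.card_eq_fintype_card (α := F), sq]
  refine ⟨Finite.of_equiv _ (Subgroup.groupEquivQuotientProdSubgroup (s := P)).symm, ?_⟩
  rw [Subgroup.card_eq_card_quotient_mul_card_subgroup P]
  exact Nat.mul_le_mul hidx hPcard

end

end Roots

end CfsgLib.SLThreePresent
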