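import Cfsg.Agent.Lib.SLThreePresent.Roots
import Cfsg.Agent.Lib.SLTwoPresent.Arith

/-!
Extending the commutator relations to all parameters.
-/

set_option autoImplicit false

namespace CfsgLib.SLThreePresent

open Polynomial

/-- An element whose cube has small order does not generate only the field of four elements. -/
theorem surjective_cube {p : ℕ} [hp : Fact p.Prime] {F : Type*} [Field F] [Fintype F]
    [Algebra (ZMod p) F] {ω : F} (hord : orderOf ω = Fintype.card F - 1)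
    (hq : Fintype.card F ≠ 4) : Function.Surjective (aeval (ω ^ 3) : (ZMod p)[X] → F) := by
  have hq1 := Fintype.one_lt_card (α := F)
  by_contra h
  obtain ⟨d, hd, hdq, hfix⟩ := SLTwoPresent.exists_frob _ h
  have hP : 2 ≤ p ^ d := (Nat.one_lt_pow hd.ne' hp.out.one_lt)
  have hω0 : ω ≠ 0 := fun h0 => by rw [h0, orderOf_zero] at hord; omega
  have h1 := hfix X
  rw [aeval_X] at h1
  have h2 : ω ^ (3 * (p ^ d - 1)) = 1 := by
    rw [pow_mul]
    apply mul_right_cancel₀ (pow_ne_zero 3 hω0)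
    rw [← pow_succ, Nat.sub_add_cancel (by omega), h1, one_mul]
  have h3 := hord ▸ orderOf_dvd_of_pow_eq_one h2
  have hle := Nat.le_of_dvd (by omega) h3
  rcases (hp.out.two_le).eq_or_lt with hp2 | hp3
  · -- characteristic two
    subst hp2
    haveI : CharP F 2 := charP_of_injective_algebraMap (algebraMap (ZMod 2) F).injective 2
    obtain ⟨e, -, he⟩ := FiniteField.card F 2
    have hde : d + 1 ≤ e := (Nat.pow_le_pow_iff_right (Nat.le_refl 2)).1 (by
      rw [pow_succ, ← he]; exact hdq)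
    rcases hde.eq_or_lt with hde' | hde'
    · rw [← hde', pow_succ] at he
      obtain ⟨k, hk⟩ := h3
      rcases Nat.lt_or_ge k 2 with hk2 | hk2
      · interval_cases k <;> omega
      · have : (Fintype.card F - 1) * 2 ≤ (Fintype.card F - 1) * k := Nat.mul_le_mul_left _ hk2
        omega
    · have : 2 ^ (d + 2) ≤ 2 ^ (e : ℕ) := Nat.pow_le_pow_right (by norm_num) hde'
      rw [pow_add] at this
      omega
  · have : p ^ d * 3 ≤ p ^ d * p := Nat.mul_le_mul_left _ hp3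
    omega

/-- A set of field elements closed under addition and one generator is everything. -/
theorem closed_all {p : ℕ} [hp : Fact p.Prime] {F : Type*} [Field F] [Algebra (ZMod p) F] {z : F}
    (hz : Function.Surjective (aeval z : (ZMod p)[X] → F)) (S : F → Prop) (h0 : S 0) (h1 : S 1)
    (hadd : ∀ a b, S a → S b → S (a + b)) (hmul : ∀ a, S a → S (z * a)) (b : F) : S b := by
  obtain ⟨Q, rfl⟩ := hz b
  induction Q using Polynomial.induction_on' with
  | add A B hA hB => rw [map_add]; exact hadd _ _ hA hB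
  | monomial l a =>
    have hl : S (z ^ l) := by
      induction l with
      | zero => simpa using h1
      | succ l ih => rw [pow_succ']; exact hmul _ ih
    rw [aeval_monomial, ← ZMod.natCast_zmod_val a, map_natCast]
    induction a.val with
    | zero => simpa using h0
    | succ m ih => rw [Nat.cast_succ, add_mul, one_mul]; exact hadd _ _ ih hl

variable {G : Type*} [Group G] {F : Type*} [Field F]

theorem Sc.commute {t a : G} {φ : F → G} {k : F} (ht : Sc t φ k) {b : F}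
    (h : Commute a (φ b)) : Commute (t * a * t⁻¹) (φ (k * b)) := by
  have h1 := h.map (MulAut.conj t)
  simp only [MulAut.conj_apply] at h1
  rwa [ht] at h1

/-- The commutator relations between root groups. -/
structure Comms (X Y Z : F → G) : Prop where
  col : ∀ a b, Commute (Y a) (Z b)
  row : ∀ a b, Commute (X a) (Z b)
  form : ∀ a b, X a * Y b * (X a)⁻¹ = Z (a * b) * Y b

namespace Roots

variable {X Y Z : F → G} {h g w c : G} {ω : F} {n N : ℕ}

section
variable (D : Roots X Y Z h g w c ω n N)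
include D

/-- From the first parameter to all of them. -/
theorem commute_all {φ : F → G} {k : F} (hk : k ≠ 0) (hφ : Sc g⁻¹ φ k)
    (h1 : ∀ b, Commute (X 1) (φ b)) (a b : F) : Commute (X a) (φ b) := by
  rcases eq_or_ne a 0 with rfl | ha
  · rw [D.X_zero]; exact Commute.one_left _
  obtain ⟨j, rfl⟩ := D.generate a ha
  have h2 := (hφ.pow j).commute (h1 ((k ^ j)⁻¹ * b))
  rwa [(D.gX.inv (inv_ne_zero D.ω_ne)).pow j, mul_one, inv_inv, ← mul_assoc,
    mul_inv_cancel₀ (pow_ne_zero _ hk), one_mul] at h2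

theorem form_shift {a b : F} (h1 : X a * Y b * (X a)⁻¹ = Z (a * b) * Y b) (j : ℕ) :
    X (ω ^ j * a) * Y (((ω ^ 2)⁻¹) ^ j * b) * (X (ω ^ j * a))⁻¹ =
      Z (ω ^ j * a * (((ω ^ 2)⁻¹) ^ j * b)) * Y (((ω ^ 2)⁻¹) ^ j * b) := by
  have hX := (D.gX.inv (inv_ne_zero D.ω_ne)).pow j
  have hY := (D.gY.inv (pow_ne_zero _ D.ω_ne)).pow j
  have hZ := (D.gZ.inv D.ω_ne).pow j
  rw [inv_inv] at hX
  rw [← hX a, ← hY b, show ω ^ j * a * ((ω ^ 2)⁻¹ ^ j * b) = ω⁻¹ ^ j * (a * b) by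
    have := D.ω_ne
    rw [show (ω ^ 2)⁻¹ ^ j = ω⁻¹ ^ j * ω⁻¹ ^ j by rw [← mul_pow, sq, mul_inv],
      show ω ^ j * a * (ω⁻¹ ^ j * ω⁻¹ ^ j * b) = (ω * ω⁻¹) ^ j * (ω⁻¹ ^ j * (a * b)) by ring,
      mul_inv_cancel₀ this, one_pow, one_mul], ← hZ]
  calc _ = g⁻¹ ^ j * (X a * Y b * (X a)⁻¹) * (g⁻¹ ^ j)⁻¹ := by group
    _ = _ := by rw [h1]; group

theorem form_all (h1 : ∀ b, X 1 * Y b * (X 1)⁻¹ = Z b * Y b) (a b : F) :
    X a * Y b * (X a)⁻¹ = Z (a * b) * Y b := by
  rcases eq_or_ne a 0 with rfl | ha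
  · simp [D.X_zero, D.Z_zero]
  obtain ⟨j, rfl⟩ := D.generate a ha
  have h2 := D.form_shift (a := 1) (b := (((ω ^ 2)⁻¹) ^ j)⁻¹ * b) (by rw [one_mul]; exact h1 _) j
  rwa [← mul_assoc ((ω ^ 2)⁻¹ ^ j),
    mul_inv_cancel₀ (pow_ne_zero _ (inv_ne_zero (pow_ne_zero _ D.ω_ne))), one_mul, mul_one] at h2

theorem form_mul {s t : F} (hs : X 1 * Y s * (X 1)⁻¹ = Z s * Y s)
    (ht : X 1 * Y t * (X 1)⁻¹ = Z t * Y t) :
    X 1 * Y (s + t) * (X 1)⁻¹ = Z s * (Y s * Z t) * Y t := by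
  rw [D.Y_add, show X 1 * (Y s * Y t) * (X 1)⁻¹ = (X 1 * Y s * (X 1)⁻¹) * (X 1 * Y t * (X 1)⁻¹) by
    group, hs, ht]
  group

/-- If the first argument squares to one, the commutator formula gives the row relations. -/
theorem row_of_form (hu : X 1 * X 1 = 1) (h2 : ∀ a : F, -a = a) {b : F}
    (hb : X 1 * Y b * (X 1)⁻¹ = Z b * Y b) : Commute (X 1) (Z b) := by
  have h3 : X 1 * (X 1 * Y b * (X 1)⁻¹) * (X 1)⁻¹ = Y b := by
    rw [show X 1 * (X 1 * Y b * (X 1)⁻¹) * (X 1)⁻¹ = X 1 * X 1 * Y b * (X 1 * X 1)⁻¹ by group, hu]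
    group
  rw [hb, show X 1 * (Z b * Y b) * (X 1)⁻¹ = X 1 * Z b * (X 1)⁻¹ * (X 1 * Y b * (X 1)⁻¹) by group,
    hb, ← mul_assoc, mul_eq_right, mul_eq_one_iff_eq_inv, ← D.Z_neg, h2] at h3
  exact mul_inv_eq_iff_eq_mul.1 h3

/-- All commutator relations, when the cube of `ω` generates the field. -/
theorem comms {p : ℕ} [Fact p.Prime] [Algebra (ZMod p) F]
    (hz : Function.Surjective (aeval (ω ^ 3) : (ZMod p)[X] → F))
    (hA : X 1 * Y 1 * (X 1)⁻¹ = Z 1 * Y 1)
    (hC : Commute (X 1) (c * (w * X (-1) * w⁻¹) * c⁻¹))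
    (hR : Commute (X 1) (Z 1) ∨ (X 1 * X 1 = 1 ∧ ∀ a : F, -a = a)) : Comms X Y Z := by
  set τ := h * g ^ 2 with hτ
  have hω := D.ω_ne
  have hτX : Sc τ X 1 := (D.hX.mul (D.gX.pow 2)).congr (by field_simp)
  have hτY : Sc τ Y (ω ^ 3) := (D.hY.mul (D.gY.pow 2)).congr (by field_simp)
  have hτZ : Sc τ Z (ω ^ 3) := (D.hZ.mul (D.gZ.pow 2)).congr (by ring)
  have hτu : τ * X 1 * τ⁻¹ = X 1 := by rw [hτX, mul_one]
  have hτu' : τ⁻¹ * X 1 * τ⁻¹⁻¹ = X 1 := by
    rw [(hτX.inv one_ne_zero), inv_one, mul_one]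
  let X32 : F → G := fun a => c * (w * X (-a) * w⁻¹) * c⁻¹
  have hτW : Sc τ⁻¹ X32 (ω ^ 3) :=
    ((D.h_X32.mul (D.g_X32.pow 2)).inv (mul_ne_zero hω (pow_ne_zero _
      (inv_ne_zero (pow_ne_zero _ hω))))).congr (by field_simp)
  have hWadd : ∀ a b, X32 (a + b) = X32 a * X32 b := fun a b => by
    simp only [X32, neg_add, D.map_add]; group
  have hW0 : X32 0 = 1 := by simp [X32, D.X_zero]
  have hWu : ∀ b, Commute (X 1) (X32 b) := closed_all hz (fun b => Commute (X 1) (X32 b))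
    (by simp [hW0]) hC
    (fun a b ha hb => by rw [hWadd]; exact ha.mul_right hb)
    (fun a ha => by have h2 := hτW.commute ha; rwa [hτu'] at h2)
  have hW := D.commute_all (pow_ne_zero 2 hω)
    ((D.g_X32.inv (inv_ne_zero (pow_ne_zero _ hω))).congr (inv_inv _)) hWu
  have col : ∀ a b, Commute (Y a) (Z b) := fun a b => by
    have h2 := (hW a b).map (MulAut.conj c)
    simp only [MulAut.conj_apply, X32, D.c_X32, ← D.Y_def] at h2
    exact h2
  have form1 : ∀ b, X 1 * Y b * (X 1)⁻¹ = Z b * Y b :=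
    closed_all hz (fun b => X 1 * Y b * (X 1)⁻¹ = Z b * Y b) (by simp [D.Y_zero, D.Z_zero]) hA
      (fun s t hs ht => by
        rw [D.form_mul hs ht, (col s t).eq, D.Z_add, D.Y_add]; group)
      (fun a ha => by
        rw [← hτY, ← hτZ]
        nth_rewrite 1 [← hτu]
        nth_rewrite 2 [← hτu]
        calc _ = τ * (X 1 * Y a * (X 1)⁻¹) * τ⁻¹ := by group
          _ = _ := by rw [ha]; group)
  have row1 : ∀ b, Commute (X 1) (Z b) := by
    rcases hR with h2 | ⟨hu, h2⟩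
    · exact closed_all hz (fun b => Commute (X 1) (Z b)) (by simp [D.Z_zero]) h2
        (fun a b ha hb => by rw [D.Z_add]; exact ha.mul_right hb)
        (fun a ha => by have h3 := hτZ.commute ha; rwa [hτu] at h3)
    · exact fun b => D.row_of_form hu h2 (form1 b)
  exact ⟨col, D.commute_all (inv_ne_zero hω) (D.gZ.inv hω) row1, D.form_all form1⟩

/-- All commutator relations over the field of four elements. -/
theorem comms_four (h3 : ω ^ 3 = 1) (h2 : ∀ a : F, -a = a) (hω2 : ω ^ 2 = ω + 1)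
    (hu : X 1 * X 1 = 1) (hA : X 1 * Y 1 * (X 1)⁻¹ = Z 1 * Y 1)
    (hA' : X 1 * Y ω * (X 1)⁻¹ = Z ω * Y ω) : Comms X Y Z := by
  have hω := D.ω_ne
  have hall : ∀ t : F, t = 0 ∨ t = 1 ∨ t = ω ∨ t = ω ^ 2 := fun t => by
    rcases eq_or_ne t 0 with ht | ht
    · exact Or.inl ht
    obtain ⟨j, rfl⟩ := D.generate t ht
    rw [← Nat.mod_add_div j 3, pow_add, pow_mul, h3, one_pow, mul_one]
    have := Nat.mod_lt j (show 3 > 0 by norm_num)
    interval_cases (j % 3) <;> simp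
  have row1 : ∀ b, Commute (X 1) (Z b) := fun b => by
    rcases hall b with rfl | rfl | rfl | rfl
    · simp [D.Z_zero]
    · exact D.row_of_form hu h2 hA
    · exact D.row_of_form hu h2 hA'
    · rw [hω2, D.Z_add]; exact (D.row_of_form hu h2 hA').mul_right (D.row_of_form hu h2 hA)
  have hi2 : (ω ^ 2)⁻¹ = ω := inv_eq_of_mul_eq_one_right (by rw [← pow_succ, h3])
  have f21 : X (ω ^ 2) * Y 1 * (X (ω ^ 2))⁻¹ = Z (ω ^ 2) * Y 1 := by
    have := D.form_shift (a := 1) (b := ω) (by rw [one_mul]; exact hA') 2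
    rw [hi2, ← pow_succ, h3, mul_one, mul_one] at this
    exact this
  have fω1 : X ω * Y 1 * (X ω)⁻¹ = Z ω * Y 1 := by
    have e : X ω = X 1 * X (ω ^ 2) := by
      rw [← D.map_add, hω2]; congr 1
      linear_combination h2 1
    rw [e, show X 1 * X (ω ^ 2) * Y 1 * (X 1 * X (ω ^ 2))⁻¹ =
      X 1 * (X (ω ^ 2) * Y 1 * (X (ω ^ 2))⁻¹) * (X 1)⁻¹ by group, f21,
      show X 1 * (Z (ω ^ 2) * Y 1) * (X 1)⁻¹ = X 1 * Z (ω ^ 2) * (X 1)⁻¹ * (X 1 * Y 1 * (X 1)⁻¹)
        by group, (row1 _).eq, mul_inv_cancel_right, hA, ← mul_assoc, ← D.Z_add]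
    congr 2
    linear_combination hω2 - h2 1
  have f1 : X 1 * Y (ω ^ 2) * (X 1)⁻¹ = Z (ω ^ 2) * Y (ω ^ 2) := by
    have := D.form_shift (a := ω) (b := 1) (by rw [mul_one]; exact fω1) 2
    rw [hi2, ← pow_succ, h3, mul_one, one_mul] at this
    exact this
  have form1 : ∀ b, X 1 * Y b * (X 1)⁻¹ = Z b * Y b := fun b => by
    rcases hall b with rfl | rfl | rfl | rfl
    · simp [D.Y_zero, D.Z_zero]
    exacts [hA, hA', f1]
  refine ⟨fun s t => ?_, D.commute_all (inv_ne_zero hω) (D.gZ.inv hω) row1,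
    D.form_all form1⟩
  have h4 := (form1 (s + t)).symm.trans (D.form_mul (form1 s) (form1 t))
  rw [D.Y_add, D.Z_add, ← mul_assoc (Z s * Z t), mul_right_cancel_iff, mul_assoc,
    mul_left_cancel_iff] at h4
  exact h4.symm

end

end Roots

end CfsgLib.SLThreePresent
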