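import Cfsg.Agent.Classical.SLGen
import Cfsg.Agent.Lib.SLTwoPresent.Word
import Cfsg.Agent.Lib.SLThreePresent.Extend

/-!
The standard generators of `SL_3`.
-/

set_option autoImplicit false

namespace CfsgLib.SLThreePresent

open Matrix

variable {F : Type*} [Field F]

local notation "SL3" => Matrix.SpecialLinearGroup (Fin 3) F

/-- The root element of `(1,2)`. -/
def x12 (t : F) : SL3 := ⟨!![1, t, 0; 0, 1, 0; 0, 0, 1], by simp [Matrix.det_fin_three]⟩
/-- The root element of `(2,3)`. -/
def x23 (t : F) : SL3 := ⟨!![1, 0, 0; 0, 1, t; 0, 0, 1], by simp [Matrix.det_fin_three]⟩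
/-- The root element of `(1,3)`. -/
def x13 (t : F) : SL3 := ⟨!![1, 0, t; 0, 1, 0; 0, 0, 1], by simp [Matrix.det_fin_three]⟩
/-- The root element of `(2,1)`. -/
def x21 (t : F) : SL3 := ⟨!![1, 0, 0; t, 1, 0; 0, 0, 1], by simp [Matrix.det_fin_three]⟩
/-- The root element of `(3,2)`. -/
def x32 (t : F) : SL3 := ⟨!![1, 0, 0; 0, 1, 0; 0, t, 1], by simp [Matrix.det_fin_three]⟩
/-- The root element of `(3,1)`. -/
def x31 (t : F) : SL3 := ⟨!![1, 0, 0; 0, 1, 0; t, 0, 1], by simp [Matrix.det_fin_three]⟩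
/-- The diagonal element. -/
def dia (a b : Fˣ) : SL3 :=
  ⟨!![(a : F), 0, 0; 0, (b : F), 0; 0, 0, (((a * b)⁻¹ : Fˣ) : F)], by
    simp [Matrix.det_fin_three]
    field_simp⟩
/-- The monomial element of `(1,2)`. -/
def wm : SL3 := ⟨!![0, 1, 0; -1, 0, 0; 0, 0, 1], by simp [Matrix.det_fin_three]⟩
/-- The cyclic permutation. -/
def cm : SL3 := ⟨!![0, 0, 1; 1, 0, 0; 0, 1, 0], by simp [Matrix.det_fin_three]⟩


theorem x12_add (a b : F) : x12 (a + b) = x12 a * x12 b := by
  apply Subtype.ext
  simp only [Matrix.SpecialLinearGroup.coe_mul]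
  simp [x12, add_comm a b]

theorem x12_zero : x12 (0 : F) = 1 := by
  apply Subtype.ext
  simp [x12, Matrix.one_fin_three]

theorem x12_pow (t : F) (k : ℕ) : x12 t ^ k = x12 ((k : F) * t) := by
  induction k with
  | zero => simp [x12_zero]
  | succ k ih => rw [pow_succ, ih, ← x12_add]; push_cast; ring_nf

theorem dia_mul (a b a' b' : Fˣ) : dia a b * dia a' b' = dia (a * a') (b * b') := by
  apply Subtype.ext
  simp only [Matrix.SpecialLinearGroup.coe_mul]
  simp [dia, mul_comm, mul_left_comm, mul_assoc]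

theorem dia_one : dia (1 : Fˣ) 1 = (1 : SL3) := by
  apply Subtype.ext
  simp [dia, Matrix.one_fin_three]

theorem dia_pow (a b : Fˣ) (k : ℕ) : dia a b ^ k = dia (a ^ k) (b ^ k) := by
  induction k with
  | zero => simp [dia_one]
  | succ k ih => rw [pow_succ, ih, dia_mul, pow_succ, pow_succ]

theorem dia_inv (a b : Fˣ) : (dia a b)⁻¹ = dia a⁻¹ b⁻¹ :=
  inv_eq_of_mul_eq_one_right (by simp [dia_mul, dia_one])

theorem cm_dia (a b : Fˣ) : cm * dia a b * cm⁻¹ = dia (a * b)⁻¹ a := by
  rw [mul_inv_eq_iff_eq_mul]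
  apply Subtype.ext
  simp only [Matrix.SpecialLinearGroup.coe_mul]
  simp [dia, cm]

theorem cm_cube : (cm : SL3) * cm * cm = 1 := by
  apply Subtype.ext
  simp only [Matrix.SpecialLinearGroup.coe_mul]
  simp [cm, Matrix.one_fin_three]

theorem cm_x12 (t : F) : cm * x12 t * cm⁻¹ = x23 t := by
  rw [mul_inv_eq_iff_eq_mul]
  apply Subtype.ext
  simp only [Matrix.SpecialLinearGroup.coe_mul]
  simp [x12, x23, cm]

theorem cm_x23 (t : F) : cm * x23 t * cm⁻¹ = x31 t := by
  rw [mul_inv_eq_iff_eq_mul]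
  apply Subtype.ext
  simp only [Matrix.SpecialLinearGroup.coe_mul]
  simp [x31, x23, cm]

theorem cm_x21 (t : F) : cm * x21 t * cm⁻¹ = x32 t := by
  rw [mul_inv_eq_iff_eq_mul]
  apply Subtype.ext
  simp only [Matrix.SpecialLinearGroup.coe_mul]
  simp [x21, x32, cm]

theorem wm_x12 (t : F) : wm * x12 t * wm⁻¹ = x21 (-t) := by
  rw [mul_inv_eq_iff_eq_mul]
  apply Subtype.ext
  simp only [Matrix.SpecialLinearGroup.coe_mul]
  simp [x12, x21, wm]

theorem wm_x23 (t : F) : wm * x23 t * wm⁻¹ = x13 t := by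
  rw [mul_inv_eq_iff_eq_mul]
  apply Subtype.ext
  simp only [Matrix.SpecialLinearGroup.coe_mul]
  simp [x23, x13, wm]

theorem form_eq (a b : F) : x12 a * x23 b * (x12 a)⁻¹ = x13 (a * b) * x23 b := by
  rw [mul_inv_eq_iff_eq_mul]
  apply Subtype.ext
  simp only [Matrix.SpecialLinearGroup.coe_mul]
  simp [x23, x13, x12]

theorem x12_x13 (a b : F) : Commute (x12 a) (x13 b) := by
  apply Subtype.ext
  simp only [Matrix.SpecialLinearGroup.coe_mul]
  simp [x13, x12, add_comm]

theorem x12_x32 (a b : F) : Commute (x12 a) (x32 b) := by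
  apply Subtype.ext
  simp only [Matrix.SpecialLinearGroup.coe_mul]
  simp [x32, x12, add_comm]

theorem dia_x12 (a b : Fˣ) (t : F) :
    dia a b * x12 t * (dia a b)⁻¹ = x12 ((a : F) * ((b⁻¹ : Fˣ) : F) * t) := by
  rw [mul_inv_eq_iff_eq_mul]
  apply Subtype.ext
  simp only [Matrix.SpecialLinearGroup.coe_mul]
  simp [dia, x12]
  field_simp

theorem wm_dia (ω : Fˣ) : wm * dia ω ω⁻¹ * wm⁻¹ = (dia ω ω⁻¹)⁻¹ := by
  rw [dia_inv, mul_inv_eq_iff_eq_mul]
  apply Subtype.ext
  simp only [Matrix.SpecialLinearGroup.coe_mul]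
  simp [dia, wm]

theorem wm_sq : (wm : SL3) * wm = dia (-1) (-1) := by
  apply Subtype.ext
  simp only [Matrix.SpecialLinearGroup.coe_mul]
  simp [dia, wm]

theorem wm_cm_sq : (wm : SL3) * cm * (wm * cm) = dia 1 (-1) := by
  apply Subtype.ext
  simp only [Matrix.SpecialLinearGroup.coe_mul]
  simp [dia, wm, cm]

theorem step_eq : (wm : SL3) * x12 1 * wm = x12 (-1) * dia (-1) (-1) * wm * x12 (-1) := by
  apply Subtype.ext
  simp only [Matrix.SpecialLinearGroup.coe_mul]
  simp [dia, wm, x12]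

theorem sl3_eq_top {K : Subgroup SL3} (hu : ∀ t, x12 t ∈ K) (hw : wm ∈ K) (hc : cm ∈ K) :
    K = ⊤ := by
  have conj : ∀ {a b : SL3}, a ∈ K → b ∈ K → a * b * a⁻¹ ∈ K := fun ha hb =>
    K.mul_mem (K.mul_mem ha hb) (K.inv_mem ha)
  have h23 : ∀ t, x23 t ∈ K := fun t => cm_x12 t ▸ conj hc (hu t)
  have h31 : ∀ t, x31 t ∈ K := fun t => cm_x23 t ▸ conj hc (h23 t)
  have h13 : ∀ t, x13 t ∈ K := fun t => wm_x23 t ▸ conj hw (h23 t)
  have h21 : ∀ t, x21 t ∈ K := fun t => by
    have := conj hw (hu (-t))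
    rwa [wm_x12, neg_neg] at this
  have h32 : ∀ t, x32 t ∈ K := fun t => cm_x21 t ▸ conj hc (h21 t)
  refine Cfsg.Agent.Classical.sl_subgroup_eq_top_of_transvection_mem K fun i j hij a => ?_
  fin_cases i <;> fin_cases j <;>
    first
      | exact absurd rfl hij
      | (convert hu a using 1; apply Subtype.ext; ext k l; fin_cases k <;> fin_cases l <;>
          simp [x12, Matrix.SpecialLinearGroup.transvection_coe, Matrix.one_apply, Matrix.single_apply];
          done)
      | (convert h13 a using 1; apply Subtype.ext; ext k l; fin_cases k <;> fin_cases l <;>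
          simp [x13, Matrix.SpecialLinearGroup.transvection_coe, Matrix.one_apply, Matrix.single_apply];
          done)
      | (convert h23 a using 1; apply Subtype.ext; ext k l; fin_cases k <;> fin_cases l <;>
          simp [x23, Matrix.SpecialLinearGroup.transvection_coe, Matrix.one_apply, Matrix.single_apply];
          done)
      | (convert h21 a using 1; apply Subtype.ext; ext k l; fin_cases k <;> fin_cases l <;>
          simp [x21, Matrix.SpecialLinearGroup.transvection_coe, Matrix.one_apply, Matrix.single_apply];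
          done)
      | (convert h31 a using 1; apply Subtype.ext; ext k l; fin_cases k <;> fin_cases l <;>
          simp [x31, Matrix.SpecialLinearGroup.transvection_coe, Matrix.one_apply, Matrix.single_apply];
          done)
      | (convert h32 a using 1; apply Subtype.ext; ext k l; fin_cases k <;> fin_cases l <;>
          simp [x32, Matrix.SpecialLinearGroup.transvection_coe, Matrix.one_apply, Matrix.single_apply];
          done)

theorem word_map_x12 {p : ℕ} [NeZero p] [Algebra (ZMod p) F] (g : SL3) (y : F)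
    (hg : ∀ t, g * x12 t * g⁻¹ = x12 (y * t)) (Q : Polynomial (ZMod p)) :
    SLTwoPresent.word (x12 1) g Q = x12 (Polynomial.aeval y Q) := by
  rw [SLTwoPresent.word_eq (LinearMap.mulLeft (ZMod p) y) x12 x12_add g hg 1 Q,
    show LinearMap.mulLeft (ZMod p) y = Algebra.lmul (ZMod p) F y from rfl,
    Polynomial.aeval_algHom_apply]
  simp

/-- An order bound turns relations into a presentation. -/
theorem exists_presentation_four {T : Type*} [Group T] [Finite T] (e : Fin 4 → T)
    (hgen : Subgroup.closure (Set.range e) = ⊤) (L : List (FreeGroup (Fin 4))) {k : ℕ}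
    (hk : L.length ≤ k) (hT : ∀ r ∈ L, FreeGroup.lift e r = 1)
    (hbound : ∀ (G : Type) (_ : Group G) (f : FreeGroup (Fin 4) →* G), Function.Surjective f →
      (∀ r ∈ L, f r = 1) → Finite G ∧ Nat.card G ≤ Nat.card T) :
    ∃ rels : Finset (FreeGroup (Fin 4)), rels.card ≤ k ∧
      Nonempty (PresentedGroup (↑rels : Set (FreeGroup (Fin 4))) ≃* T) := by
  classical
  refine ⟨L.toFinset, (List.toFinset_card_le L).trans hk, ?_⟩
  have hrels : ∀ r ∈ (↑L.toFinset : Set (FreeGroup (Fin 4))), FreeGroup.lift e r = 1 :=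
    fun r hr => hT r (List.mem_toFinset.1 hr)
  let φ : PresentedGroup (↑L.toFinset : Set (FreeGroup (Fin 4))) →* T :=
    PresentedGroup.toGroup hrels
  have hsurj : Function.Surjective φ := by
    rw [← MonoidHom.range_eq_top, eq_top_iff, ← hgen, Subgroup.closure_le]
    rintro a ⟨i, rfl⟩
    exact ⟨PresentedGroup.of i, by simp [φ]⟩
  obtain ⟨hfin, hle⟩ := hbound _ inferInstance (PresentedGroup.mk _) (QuotientGroup.mk'_surjective _)
    (fun r hr => PresentedGroup.one_of_mem (List.mem_toFinset.2 hr))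
  exact ⟨MulEquiv.ofBijective φ ((Nat.bijective_iff_surjective_and_card φ).2
    ⟨hsurj, le_antisymm hle (Nat.card_le_card_of_surjective φ hsurj)⟩)⟩

theorem closure_eq_top_four {G : Type*} [Group G] (f : FreeGroup (Fin 4) →* G)
    (hf : Function.Surjective f) :
    Subgroup.closure (Set.range fun i => f (FreeGroup.of i)) = ⊤ := by
  have h1 : Set.range (fun i => f (FreeGroup.of i)) = f '' Set.range FreeGroup.of := by
    rw [← Set.range_comp]; rfl
  rw [h1, ← MonoidHom.map_closure, FreeGroup.closure_range_of, Subgroup.map_top_of_surjective f hf]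

end CfsgLib.SLThreePresent
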