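import Cfsg.Agent.Lib.SLThreePresent.Bound
import Cfsg.Agent.Lib.SLThreePresent.Target
import Cfsg.Agent.Lib.SLTwoPresent.Odd
import Cfsg.Agent.Classical.SLBasic

/-!
Presentations of `SL_3(q)` on four generators with fourteen relations.
-/

set_option autoImplicit false
set_option linter.unusedSectionVars false

namespace CfsgLib.SLThreePresent

open Polynomial SLTwoPresent

variable {F : Type*} [Field F] [Fintype F] {p : ℕ} [hp : Fact p.Prime] [Algebra (ZMod p) F]

local notation "FU" => FreeGroup.of (0 : Fin 4)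
local notation "FH" => FreeGroup.of (1 : Fin 4)
local notation "FW" => FreeGroup.of (2 : Fin 4)
local notation "FC" => FreeGroup.of (3 : Fin 4)
local notation "FG" => (FC * FH * FC⁻¹)
local notation "SL3" => Matrix.SpecialLinearGroup (Fin 3) F

/-- The images of the generators. -/
def gens (ω : Fˣ) : Fin 4 → SL3 := ![x12 1, dia ω ω⁻¹, wm, cm]

omit hp [Algebra (ZMod p) F] in
theorem gens_g (ω : Fˣ) : FreeGroup.lift (gens ω) FG = dia 1 ω := by
  simp only [map_mul, map_inv, FreeGroup.lift_apply_of, gens]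
  show cm * dia ω ω⁻¹ * cm⁻¹ = _
  rw [cm_dia, mul_inv_cancel, inv_one]

omit hp [Algebra (ZMod p) F] in
theorem g_conj (ω : Fˣ) (t : F) : dia 1 ω * x12 t * (dia 1 ω)⁻¹ = x12 ((ω : F)⁻¹ * t) := by
  rw [dia_x12, Units.val_one, one_mul, Units.val_inv_eq_inv_val]

theorem lift_word (ω : Fˣ) (Q : (ZMod p)[X]) :
    FreeGroup.lift (gens ω) (word FU FG Q) = x12 (aeval (ω : F)⁻¹ Q) := by
  rw [map_word, gens_g, FreeGroup.lift_apply_of]
  exact word_map_x12 _ _ (g_conj ω) Q

omit hp [Algebra (ZMod p) F] in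
theorem x12_inv (t : F) : (x12 t)⁻¹ = x12 (-t) :=
  inv_eq_of_mul_eq_one_right (by rw [← x12_add, add_neg_cancel, x12_zero])

theorem card_sl_three :
    Nat.card SL3 = (Fintype.card F ^ 2 + Fintype.card F + 1) * (Fintype.card F ^ 2 *
      ((Fintype.card F - 1) * (Fintype.card F - 1) * (Fintype.card F * (Fintype.card F + 1)))) := by
  classical
  have h := Cfsg.Agent.Classical.card_sl_mul (F := F) 3 (by norm_num)
  obtain ⟨r, hr⟩ : ∃ r, Fintype.card F = r + 1 := ⟨Fintype.card F - 1, by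
    have := Fintype.one_lt_card (α := F); omega⟩
  have hr0 : 0 < r := by have := Fintype.one_lt_card (α := F); omega
  rw [Fin.prod_univ_three, hr, Nat.add_sub_cancel] at h
  simp only [Fin.val_zero, Fin.val_one, Fin.val_two, pow_zero, pow_one] at h
  rw [Nat.sub_eq_of_eq_add (show (r + 1) ^ 3 = r * ((r + 1) ^ 2 + (r + 1) + 1) + 1 by ring),
    Nat.sub_eq_of_eq_add (show (r + 1) ^ 3 = r * (r + 2) * (r + 1) + (r + 1) by ring),
    Nat.sub_eq_of_eq_add (show (r + 1) ^ 3 = r * (r + 1) ^ 2 + (r + 1) ^ 2 by ring)] at h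
  rw [hr, Nat.add_sub_cancel]
  refine Nat.eq_of_mul_eq_mul_left hr0 (h.trans ?_)
  ring

/-- The relator spreading commutation along the torus. -/
theorem exists_trinomial (ω : Fˣ) (hgen : ∀ t : F, t ≠ 0 → ∃ j : ℕ, t = (ω : F) ^ j)
    [CharP F p] :
    ∃ R6 : FreeGroup (Fin 4), FreeGroup.lift (gens ω) R6 = 1 ∧
      ∀ (G : Type) (_ : Group G) (f : FreeGroup (Fin 4) →* G), f R6 = 1 → f FU ^ p = 1 →
        f FG ^ (Fintype.card F - 1) = 1 →
        (p = 2 ∨ Commute (f FU) (f FG * f FU * (f FG)⁻¹)) →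
        ∀ k : ℕ, Commute (f FU) (f FG ^ k * f FU * (f FG ^ k)⁻¹) := by
  classical
  by_cases h2 : Fintype.card F = 2
  · refine ⟨1, map_one _, fun G _ f _ _ hg _ k => ?_⟩
    rw [h2, show 2 - 1 = 1 from rfl, pow_one] at hg
    rw [hg, one_pow, one_mul, inv_one, mul_one]
  set y : F := (ω : F)⁻¹ with hy
  have hgeny : ∀ t : F, t ≠ 0 → ∃ k : ℕ, t = y ^ k := fun t ht => by
    obtain ⟨k, hk⟩ := hgen t⁻¹ (inv_ne_zero ht)
    exact ⟨k, by rw [hy, inv_pow, ← hk, inv_inv]⟩
  obtain ⟨k, i, j, hi, hj, hk, hij⟩ : ∃ k i j : ℕ, ¬ p ∣ i ∧ ¬ p ∣ j ∧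
      y ^ k = (i : F) + (j : F) * y ∧ (p = 2 → i = 1 ∧ j = 1) := by
    have hd1 : ¬ p ∣ 1 := hp.out.not_dvd_one
    by_cases h1 : 1 + y = 0
    · have hy1 : y = -1 := eq_neg_of_add_eq_zero_right h1
      have hp2 : p ≠ 2 := by
        rintro rfl
        rw [CharTwo.neg_eq] at hy1
        refine h2 (le_antisymm ?_ Fintype.one_lt_card)
        have hsub : (Finset.univ : Finset F) ⊆ {0, 1} := fun t _ => by
          rcases eq_or_ne t 0 with rfl | ht
          · simp
          · obtain ⟨k, rfl⟩ := hgeny t ht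
            simp [hy1]
        exact (Finset.card_le_card hsub).trans (Finset.card_le_two)
      refine ⟨0, 2, 1, fun hd => hp2 ((Nat.prime_dvd_prime_iff_eq hp.out Nat.prime_two).1 hd), hd1,
        ?_, fun h => absurd h hp2⟩
      rw [hy1]; push_cast; ring
    · obtain ⟨k, hk⟩ := hgeny _ h1
      exact ⟨k, 1, 1, hd1, hd1, by rw [← hk]; simp, fun _ => ⟨rfl, rfl⟩⟩
  refine ⟨FG ^ k * FU * (FG ^ k)⁻¹ * (FU ^ i * (FG * FU * FG⁻¹) ^ j)⁻¹, ?_, ?_⟩
  · have hgl : gens ω 3 * gens ω 1 * (gens ω 3)⁻¹ = dia 1 ω := by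
      rw [← gens_g ω]; simp only [map_mul, map_inv, FreeGroup.lift_apply_of]
    simp only [map_mul, map_inv, map_pow, mul_inv_eq_one, FreeGroup.lift_apply_of]
    rw [hgl]
    show dia 1 ω ^ k * x12 1 * (dia 1 ω ^ k)⁻¹ =
      x12 1 ^ i * (dia 1 ω * x12 1 * (dia 1 ω)⁻¹) ^ j
    rw [g_conj, x12_pow, x12_pow, ← x12_add, dia_pow, one_pow, dia_x12, Units.val_one, one_mul,
      ← inv_pow, Units.val_pow_eq_pow_val, Units.val_inv_eq_inv_val, ← hy, hk]
    simp
  · intro G _ f hf hu _ hc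
    have hgdef : f FC * f FH * (f FC)⁻¹ = f FG := by simp only [map_mul, map_inv]
    simp only [map_mul f, map_inv f, map_pow f, mul_inv_eq_one] at hf
    rw [hgdef] at hf
    have hc' : Commute (f FU) (f FG * f FU * (f FG)⁻¹) := by
      rcases hc with hp2 | hc
      · obtain ⟨rfl, rfl⟩ := hij hp2
        rw [pow_one, pow_one] at hf
        subst hp2
        set a := f FU
        set b := f FG * f FU * (f FG)⁻¹ with hb
        have ha : a⁻¹ = a := inv_eq_of_mul_eq_one_right (by rw [← sq]; exact hu)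
        have hb' : b⁻¹ = b := inv_eq_of_mul_eq_one_right (by
          rw [← sq, hb, pow_conj, hu, mul_one, mul_inv_cancel])
        have hab : (a * b)⁻¹ = a * b := inv_eq_of_mul_eq_one_right (by
          rw [← sq, ← hf, pow_conj, hu, mul_one, mul_inv_cancel])
        show a * b = b * a
        conv_lhs => rw [← hab, mul_inv_rev, ha, hb']
      · exact hc
    exact commute_trinomial hu hc' (Commute.pow_self _ k) hi hj hf

/-- The presentation, given two further relators. -/
theorem presentation_core [CharP F p] (ω : Fˣ) (hord : orderOf ω = Fintype.card F - 1)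
    (hgenω : ∀ t : F, t ≠ 0 → ∃ j : ℕ, t = (ω : F) ^ j) (n : ℕ) (hωn : ω ^ n = -1)
    (E₁ E₂ : FreeGroup (Fin 4)) (hE₁ : FreeGroup.lift (gens ω) E₁ = 1)
    (hE₂ : FreeGroup.lift (gens ω) E₂ = 1)
    (hext : ∀ (G : Type) (_ : Group G) (f : FreeGroup (Fin 4) →* G), f E₁ = 1 → f E₂ = 1 →
      (f FW * f FH * (f FW)⁻¹ = (f FH)⁻¹ → f FW * f FW = f FH ^ n →
        f FH ^ (Fintype.card F - 1) = 1) ∧
      (p = 2 ∨ Commute (f FU) (f FG * f FU * (f FG)⁻¹)) ∧
      ∀ (X Y Z : F → G), Roots X Y Z (f FH) (f FG) (f FW) (f FC) (ω : F) n (Fintype.card F - 1) →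
        X 1 = f FU → f FU ^ p = 1 → (∀ Q : (ZMod p)[X], word (f FU) (f FG) Q = X (aeval (ω : F)⁻¹ Q)) →
        X 1 * Y 1 * (X 1)⁻¹ = Z 1 * Y 1 →
        Commute (X 1) (f FC * (f FW * X (-1) * (f FW)⁻¹) * (f FC)⁻¹) → Comms X Y Z) :
    ∃ rels : Finset (FreeGroup (Fin 4)), rels.card ≤ 14 ∧
      Nonempty (PresentedGroup (↑rels : Set (FreeGroup (Fin 4))) ≃* SL3) := by
  classical
  have hq := Fintype.one_lt_card (α := F)
  have hω0 : (ω : F) ≠ 0 := ω.ne_zero
  have hN : 0 < Fintype.card F - 1 := by omega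
  have hordy : orderOf ((ω : F)⁻¹) = Fintype.card F - 1 := by
    rw [← Units.val_inv_eq_inv_val, orderOf_units, orderOf_inv, hord]
  have hsurj : Function.Surjective (aeval (ω : F)⁻¹ : (ZMod p)[X] → F) :=
    surjective_of_orderOf hordy hN (by omega)
  have hpN : ¬ p ∣ Fintype.card F - 1 := fun h => by
    obtain ⟨e, -, he⟩ := FiniteField.card F p
    have h1 : p ∣ Fintype.card F := he ▸ dvd_pow_self p e.ne_zero
    have h2 := Nat.dvd_sub h1 h
    rw [Nat.sub_sub_self hq.le] at h2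
    exact hp.out.not_dvd_one h2
  obtain ⟨R, P, hXN, hRP, hP⟩ := exists_crt (hordy ▸ pow_orderOf_eq_one ((ω : F)⁻¹)) hpN hsurj
    ((ω : F) ^ 2)
  obtain ⟨R6, hR6T, hR6⟩ := exists_trinomial (p := p) ω hgenω
  let L : List (FreeGroup (Fin 4)) :=
    [FC * FC * FC, FH * FG * (FC * FG * FC⁻¹), FH * FG * (FG * FH)⁻¹, FU ^ p,
      FH * FU * FH⁻¹ * (word FU FG P)⁻¹, R6, FW * FH * FW⁻¹ * FH, FW * FW * (FH ^ n)⁻¹,
      FW * FC * (FW * FC) * (FG ^ n)⁻¹,
      FW * FU * FW * (FU⁻¹ * FH ^ n * FW * FU⁻¹)⁻¹,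
      FU * (FC * FU * FC⁻¹) * FU⁻¹ * (FW * (FC * FU * FC⁻¹) * FW⁻¹ * (FC * FU * FC⁻¹))⁻¹,
      FU * (FC * (FW * FU⁻¹ * FW⁻¹) * FC⁻¹) * (FC * (FW * FU⁻¹ * FW⁻¹) * FC⁻¹ * FU)⁻¹, E₁, E₂]
  have hgenT : Subgroup.closure (Set.range (gens ω)) = (⊤ : Subgroup SL3) := by
    set K := Subgroup.closure (Set.range (gens ω))
    have hmem : ∀ r : FreeGroup (Fin 4), FreeGroup.lift (gens ω) r ∈ K := fun r => by
      show _ ∈ Subgroup.closure _
      rw [← FreeGroup.range_lift_eq_closure]; exact ⟨r, rfl⟩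
    refine sl3_eq_top (fun t => ?_) (Subgroup.subset_closure ⟨2, rfl⟩)
      (Subgroup.subset_closure ⟨3, rfl⟩)
    obtain ⟨Q, rfl⟩ := hsurj t
    rw [← lift_word]
    exact hmem _
  refine exists_presentation_four (gens ω) hgenT L (k := 14) (le_of_eq rfl) ?_ ?_
  · -- the relations hold
    intro r hr
    simp only [L, List.mem_cons, List.not_mem_nil, or_false] at hr
    have hω2 : ω⁻¹ ^ n = -1 := by rw [inv_pow, hωn, inv_neg, inv_one]
    have hhn : dia ω ω⁻¹ ^ n = dia (-1) (-1) := by rw [dia_pow, hωn, hω2]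
    have hgn : dia 1 ω ^ n = dia 1 (-1) := by rw [dia_pow, one_pow, hωn]
    rcases hr with rfl | rfl | rfl | rfl | rfl | rfl | rfl | rfl | rfl | rfl | rfl | rfl | rfl | rfl
    · simp only [map_mul, FreeGroup.lift_apply_of]; exact cm_cube
    · rw [map_mul, map_mul, map_mul (FreeGroup.lift (gens ω)) (FC * FG) FC⁻¹,
        map_mul _ FC FG, map_inv, gens_g, FreeGroup.lift_apply_of, FreeGroup.lift_apply_of]
      show dia ω ω⁻¹ * dia 1 ω * (cm * dia 1 ω * cm⁻¹) = 1
      rw [cm_dia, dia_mul, dia_mul, mul_one, inv_mul_cancel, one_mul, mul_inv_cancel, mul_one,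
        dia_one]
    · rw [map_mul, map_inv, map_mul, map_mul _ FG FH, gens_g, FreeGroup.lift_apply_of,
        mul_inv_eq_one]
      show dia ω ω⁻¹ * dia 1 ω = dia 1 ω * dia ω ω⁻¹
      rw [dia_mul, dia_mul, mul_comm ω, mul_comm ω⁻¹]
    · rw [map_pow, FreeGroup.lift_apply_of]
      show x12 1 ^ p = 1
      rw [x12_pow, CharP.cast_eq_zero, zero_mul, x12_zero]
    · rw [map_mul, map_inv, lift_word, hP, map_mul, map_mul, map_inv, FreeGroup.lift_apply_of,
        FreeGroup.lift_apply_of, mul_inv_eq_one]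
      show dia ω ω⁻¹ * x12 1 * (dia ω ω⁻¹)⁻¹ = x12 ((ω : F) ^ 2)
      rw [dia_x12, inv_inv, mul_one, sq]
    · exact hR6T
    · simp only [map_mul, map_inv, FreeGroup.lift_apply_of]
      show wm * dia ω ω⁻¹ * wm⁻¹ * dia ω ω⁻¹ = 1
      rw [wm_dia, inv_mul_cancel]
    · simp only [map_mul, map_inv, map_pow, FreeGroup.lift_apply_of, mul_inv_eq_one]
      show wm * wm = dia ω ω⁻¹ ^ n
      rw [wm_sq, hhn]
    · rw [map_mul, map_inv, map_pow, gens_g, map_mul, map_mul, FreeGroup.lift_apply_of,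
        FreeGroup.lift_apply_of, mul_inv_eq_one, hgn]
      exact wm_cm_sq
    · simp only [map_mul, map_inv, map_pow, FreeGroup.lift_apply_of, mul_inv_eq_one]
      show wm * x12 1 * wm = (x12 1)⁻¹ * dia ω ω⁻¹ ^ n * wm * (x12 1)⁻¹
      rw [hhn, x12_inv]
      exact step_eq
    · simp only [map_mul, map_inv, FreeGroup.lift_apply_of, mul_inv_eq_one]
      show x12 1 * (cm * x12 1 * cm⁻¹) * (x12 1)⁻¹ =
        wm * (cm * x12 1 * cm⁻¹) * wm⁻¹ * (cm * x12 1 * cm⁻¹)
      rw [cm_x12, wm_x23, form_eq, mul_one]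
    · simp only [map_mul, map_inv, FreeGroup.lift_apply_of, mul_inv_eq_one]
      show x12 1 * (cm * (wm * (x12 1)⁻¹ * wm⁻¹) * cm⁻¹) =
        cm * (wm * (x12 1)⁻¹ * wm⁻¹) * cm⁻¹ * x12 1
      rw [x12_inv, wm_x12, cm_x21]
      exact (x12_x32 _ _).eq
    · exact hE₁
    · exact hE₂
  · -- the bound
    intro G _ f hf hrel
    simp only [L, List.mem_cons, List.not_mem_nil, or_false, forall_eq_or_imp, forall_eq] at hrel
    obtain ⟨hc3, hprod, hhg, hup, hPr, h6, hwhw, hw2, hwc, hstep, hA, hC, h1, h2⟩ := hrel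
    obtain ⟨hN1, hcm, hcomms⟩ := hext G inferInstance f h1 h2
    have hgdef : f FC * f FH * (f FC)⁻¹ = f FG := by simp only [map_mul, map_inv]
    set g := f FG with hg
    simp only [map_mul, map_inv, map_pow, map_word, mul_inv_eq_one, hgdef] at hc3 hprod hhg hup hPr hwhw hw2 hwc hstep hA hC
    rw [mul_eq_one_iff_eq_inv] at hwhw
    set u := f FU
    set h := f FH
    set w := f FW
    set c := f FC
    have hhN := hN1 hwhw hw2
    have hgN : g ^ (Fintype.card F - 1) = 1 := by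
      rw [← hgdef, ← MulAut.conj_apply, ← map_pow, hhN, map_one]
    have hcomm := hR6 G inferInstance f h6 hup hgN hcm
    obtain ⟨X, hadd, hX1, hXh, hXg, hXw⟩ := exists_param u g h ((ω : F) ^ 2) (ω : F)⁻¹ hup hcomm
      (Commute.symm hhg) hsurj P hP hPr (Or.inr (Or.inr ⟨_, R, hN, hhN, hgN, hXN, hRP⟩))
    have hX0 : X 0 = 1 := by
      have h3 := hadd 0 0
      rw [add_zero] at h3
      exact left_eq_mul.1 h3
    have hXm : X (-1) = u⁻¹ := by
      rw [eq_inv_iff_mul_eq_one, ← hX1, ← hadd, neg_add_cancel, hX0]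
    let Y : F → G := fun a => c * X a * c⁻¹
    let Z : F → G := fun a => w * Y a * w⁻¹
    have D : Roots X Y Z h g w c (ω : F) n (Fintype.card F - 1) :=
      { g_def := hgdef
        Y_def := fun _ => rfl
        Z_def := fun _ => rfl
        map_add := hadd
        ω_ne := hω0
        ω_n := by simpa using congrArg Units.val hωn
        generate := hgenω
        N_pos := hN
        h_pow := hhN
        hX := hXh
        gX := hXg
        hg := hhg
        c3 := hc3
        prod := hprod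
        whw := hwhw
        w_sq := hw2
        wc_sq := hwc
        step := ⟨-1, -1, by rw [hX1, hXm]; exact hstep⟩ }
    have E := hcomms X Y Z D hX1 hup hXw (by simp only [Y, Z, hX1]; exact hA)
      (by rw [hX1, hXm]; exact hC)
    have hcl := closure_eq_top_four f hf
    have hgen : Subgroup.closure ({X 1, h, w, c} : Set G) = ⊤ := by
      rw [← top_le_iff, ← hcl, Subgroup.closure_le, hX1]
      rintro x ⟨i, rfl⟩
      refine Subgroup.subset_closure ?_
      fin_cases i <;> simp [u, h, w, c]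
    rw [card_sl_three]
    exact D.card_le E hgen

/-- `SL_3(q)` has a presentation on four generators with at most fourteen relations. -/
theorem main [CharP F p] : ∃ rels : Finset (FreeGroup (Fin 4)), rels.card ≤ 14 ∧
    Nonempty (PresentedGroup (↑rels : Set (FreeGroup (Fin 4))) ≃* SL3) := by
  classical
  obtain ⟨ω, hord, hgenω⟩ := exists_omega (F := F)
  have hq := Fintype.one_lt_card (α := F)
  obtain ⟨e, -, he⟩ := FiniteField.card F p
  have hordF : orderOf (ω : F) = Fintype.card F - 1 := by rw [orderOf_units, hord]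
  by_cases hp2 : p = 2
  · -- even characteristic
    subst hp2
    have hωN : ω ^ (Fintype.card F - 1) = -1 := by
      rw [← hord, pow_orderOf_eq_one]
      exact Units.ext (by simp [CharTwo.neg_eq])
    have hhN : FreeGroup.lift (gens ω) (FH ^ (Fintype.card F - 1)) = 1 := by
      rw [map_pow, FreeGroup.lift_apply_of]
      show dia ω ω⁻¹ ^ _ = 1
      rw [dia_pow, inv_pow, ← hord, pow_orderOf_eq_one, inv_one, dia_one]
    by_cases h4 : Fintype.card F = 4
    · have hsurj : Function.Surjective (aeval (ω : F)⁻¹ : (ZMod 2)[X] → F) :=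
        surjective_of_orderOf (n := Fintype.card F - 1)
          (by rw [← Units.val_inv_eq_inv_val, orderOf_units, orderOf_inv, hord]) (by omega) (by omega)
      obtain ⟨Q, hQ⟩ := hsurj (ω : F)
      refine presentation_core ω hord hgenω _ hωN (FH ^ (Fintype.card F - 1))
        (FU * (FC * word FU FG Q * FC⁻¹) * FU⁻¹ *
          (FW * (FC * word FU FG Q * FC⁻¹) * FW⁻¹ * (FC * word FU FG Q * FC⁻¹))⁻¹) hhN ?_ ?_
      · simp only [map_mul, map_inv, lift_word, hQ, FreeGroup.lift_apply_of, mul_inv_eq_one]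
        show x12 1 * (cm * x12 (ω : F) * cm⁻¹) * (x12 1)⁻¹ =
          wm * (cm * x12 (ω : F) * cm⁻¹) * wm⁻¹ * (cm * x12 (ω : F) * cm⁻¹)
        rw [cm_x12, wm_x23, form_eq, one_mul]
      · intro G _ f h1 h2
        refine ⟨fun _ _ => by rw [← map_pow]; exact h1, Or.inl rfl,
          fun X Y Z D hX1 hu hw hA _ => ?_⟩
        have hgdef : f FC * f FH * (f FC)⁻¹ = f FG := by simp only [map_mul, map_inv]
        simp only [map_mul f, map_inv f, map_word, mul_inv_eq_one] at h2
        rw [hgdef] at h2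
        rw [hw Q, hQ, ← hX1, ← D.Y_def, ← D.Z_def] at h2
        have h3 : (ω : F) ^ 3 = 1 := by
          rw [show 3 = orderOf (ω : F) by rw [hordF, h4], pow_orderOf_eq_one]
        refine D.comms_four h3 (fun a => CharTwo.neg_eq a) ?_ (by rw [hX1, ← sq]; exact hu) hA h2
        have hne : (ω : F) - 1 ≠ 0 := sub_ne_zero.2 fun h => by
          rw [h, orderOf_one, h4] at hordF; norm_num at hordF
        apply mul_left_cancel₀ hne
        linear_combination h3 + (-(ω : F) ^ 2 + 1) * CharTwo.two_eq_zero (R := F)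
    · refine presentation_core ω hord hgenω _ hωN (FH ^ (Fintype.card F - 1)) 1 hhN (map_one _) ?_
      intro G _ f h1 _
      refine ⟨fun _ _ => by rw [← map_pow]; exact h1, Or.inl rfl,
        fun X Y Z D hX1 hu _ hA hC => ?_⟩
      exact D.comms (surjective_cube (p := 2) hordF h4) hA hC
        (Or.inr ⟨by rw [hX1, ← sq]; exact hu, fun a => CharTwo.neg_eq a⟩)
  · -- odd characteristic
    obtain ⟨n, hn⟩ : ∃ n, Fintype.card F = 2 * n + 1 :=
      he ▸ (hp.out.odd_of_ne_two hp2).pow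
    have h4 : Fintype.card F ≠ 4 := by omega
    have hωn : ω ^ n = -1 := by
      refine Units.ext ?_
      have h1 : ((ω : F) ^ n) * ((ω : F) ^ n) = 1 := by
        rw [← pow_add, ← two_mul, show 2 * n = orderOf (ω : F) by omega, pow_orderOf_eq_one]
      rw [Units.val_pow_eq_pow_val, Units.val_neg, Units.val_one]
      refine (mul_self_eq_one_iff.1 h1).resolve_left fun h => ?_
      have := Nat.le_of_dvd (by omega) (orderOf_dvd_of_pow_eq_one h)
      omega
    refine presentation_core ω hord hgenω n hωn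
      (FU * (FG * FU * FG⁻¹) * (FG * FU * FG⁻¹ * FU)⁻¹)
      (FU * (FW * (FC * FU * FC⁻¹) * FW⁻¹) * (FW * (FC * FU * FC⁻¹) * FW⁻¹ * FU)⁻¹) ?_ ?_ ?_
    · have hgl : gens ω 3 * gens ω 1 * (gens ω 3)⁻¹ = dia 1 ω := by
        rw [← gens_g ω]; simp only [map_mul, map_inv, FreeGroup.lift_apply_of]
      simp only [map_mul, map_inv, FreeGroup.lift_apply_of, mul_inv_eq_one]
      rw [hgl]
      show x12 1 * (dia 1 ω * x12 1 * (dia 1 ω)⁻¹) = dia 1 ω * x12 1 * (dia 1 ω)⁻¹ * x12 1
      rw [g_conj, ← x12_add, ← x12_add, add_comm]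
    · simp only [map_mul, map_inv, FreeGroup.lift_apply_of, mul_inv_eq_one]
      show x12 1 * (wm * (cm * x12 1 * cm⁻¹) * wm⁻¹) = wm * (cm * x12 1 * cm⁻¹) * wm⁻¹ * x12 1
      rw [cm_x12, wm_x23]
      exact (x12_x13 _ _).eq
    · intro G _ f h1 h2
      have hgdef : f FC * f FH * (f FC)⁻¹ = f FG := by simp only [map_mul, map_inv]
      simp only [map_mul f, map_inv f, mul_inv_eq_one] at h1 h2
      refine ⟨fun hinv hsq => ?_, Or.inr (by simp only [map_mul, map_inv]; exact h1),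
        fun X Y Z D hX1 _ _ hA hC => ?_⟩
      · have h3 : MulAut.conj (f FW) (f FH ^ n) = (f FH ^ n)⁻¹ := by
          rw [map_pow, MulAut.conj_apply, hinv, inv_pow]
        rw [← hsq, MulAut.conj_apply,
          show f FW * (f FW * f FW) * (f FW)⁻¹ = f FW * f FW by group] at h3
        rw [hn, Nat.add_sub_cancel, two_mul, pow_add, ← hsq]
        exact mul_eq_one_iff_eq_inv.2 h3
      · refine D.comms (surjective_cube (p := p) hordF h4) hA hC (Or.inl ?_)
        rw [hX1, D.Z_def, D.Y_def, hX1]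
        exact h2

end CfsgLib.SLThreePresent
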