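import Mathlib

/-!
Root groups and torus derived from short relations of `SL_3`.

Here `X` parametrises the root group of `(1,2)`, `h = diag(ω, ω⁻¹, 1)`, `w` is the Weyl element of
`(1,2)` and `c` the cyclic permutation matrix.
-/

set_option autoImplicit false

namespace CfsgLib.SLThreePresent

variable {G : Type*} [Group G] {F : Type*} [Field F]

/-- `t` scales `φ` by `k`. -/
def Sc (t : G) (φ : F → G) (k : F) : Prop := ∀ a, t * φ a * t⁻¹ = φ (k * a)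

namespace Sc

variable {t s : G} {φ : F → G} {k l : F}

theorem mul (ht : Sc t φ k) (hs : Sc s φ l) : Sc (t * s) φ (k * l) := fun a => by
  rw [show t * s * φ a * (t * s)⁻¹ = t * (s * φ a * s⁻¹) * t⁻¹ by group, hs, ht, mul_assoc]

theorem one (φ : F → G) : Sc (1 : G) φ 1 := fun a => by simp

theorem inv (ht : Sc t φ k) (hk : k ≠ 0) : Sc t⁻¹ φ k⁻¹ := fun a => by
  have h := ht (k⁻¹ * a)
  rw [← mul_assoc, mul_inv_cancel₀ hk, one_mul] at h
  rw [← h]; group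

theorem pow (ht : Sc t φ k) : ∀ j : ℕ, Sc (t ^ j) φ (k ^ j)
  | 0 => by simpa using Sc.one φ
  | j + 1 => by rw [pow_succ, pow_succ]; exact (Sc.pow ht j).mul ht

theorem congr (ht : Sc t φ k) (h : k = l) : Sc t φ l := h ▸ ht

theorem transfer (ht : Sc t φ k) {d t' : G} {φ' : F → G} (hd : d⁻¹ * t' * d = t)
    (hφ : ∀ a, φ' a = d * φ a * d⁻¹) : Sc t' φ' k := fun a => by
  rw [hφ, hφ, ← ht, ← hd]; group

theorem swap (ht : Sc t φ k) (a : F) : t * φ a = φ (k * a) * t := by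
  rw [← ht, inv_mul_cancel_right]

theorem neg (ht : Sc t φ k) : Sc t (fun a => φ (-a)) k := fun a => by
  simp only; rw [ht, mul_neg]

end Sc

/-- The relations between torus, Weyl elements and one root group. -/
structure Roots (X Y Z : F → G) (h g w c : G) (ω : F) (n N : ℕ) : Prop where
  g_def : c * h * c⁻¹ = g
  Y_def : ∀ a, Y a = c * X a * c⁻¹
  Z_def : ∀ a, Z a = w * Y a * w⁻¹
  map_add : ∀ a b, X (a + b) = X a * X b
  ω_ne : ω ≠ 0
  ω_n : ω ^ n = -1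
  generate : ∀ t : F, t ≠ 0 → ∃ j : ℕ, t = ω ^ j
  N_pos : 0 < N
  h_pow : h ^ N = 1
  hX : Sc h X (ω ^ 2)
  gX : Sc g X ω⁻¹
  hg : Commute h g
  c3 : c * c * c = 1
  prod : h * g * (c * g * c⁻¹) = 1
  whw : w * h * w⁻¹ = h⁻¹
  w_sq : w * w = h ^ n
  wc_sq : w * c * (w * c) = g ^ n
  step : ∃ r r' : F, w * X 1 * w = X r * h ^ n * w * X r'

namespace Roots

variable {X Y Z : F → G} {h g w c : G} {ω : F} {n N : ℕ}

section
variable (D : Roots X Y Z h g w c ω n N)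
include D

theorem X_zero : X 0 = 1 := by
  have h1 := D.map_add 0 0
  rw [add_zero] at h1
  exact left_eq_mul.1 h1

theorem Y_add (a b : F) : Y (a + b) = Y a * Y b := by
  simp only [D.Y_def, D.map_add]; group

theorem Z_add (a b : F) : Z (a + b) = Z a * Z b := by
  simp only [D.Z_def, D.Y_add]; group

theorem Y_zero : Y 0 = 1 := by simp [D.Y_def, D.X_zero]

theorem Z_zero : Z 0 = 1 := by simp [D.Z_def, D.Y_zero]

theorem X_neg (a : F) : X (-a) = (X a)⁻¹ := by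
  rw [eq_inv_iff_mul_eq_one, ← D.map_add, neg_add_cancel, D.X_zero]

theorem Y_neg (a : F) : Y (-a) = (Y a)⁻¹ := by
  rw [eq_inv_iff_mul_eq_one, ← D.Y_add, neg_add_cancel, D.Y_zero]

theorem Z_neg (a : F) : Z (-a) = (Z a)⁻¹ := by
  rw [eq_inv_iff_mul_eq_one, ← D.Z_add, neg_add_cancel, D.Z_zero]

theorem c_inv : c⁻¹ = c * c := inv_eq_of_mul_eq_one_left D.c3

theorem g_pow : g ^ N = 1 := by
  rw [← D.g_def, ← MulAut.conj_apply, ← map_pow, D.h_pow, map_one]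

theorem cgc : c * g * c⁻¹ = g⁻¹ * h⁻¹ := by
  rw [← mul_inv_rev, eq_inv_iff_mul_eq_one, mul_eq_one_comm]
  exact D.prod

theorem c_inv_h : c⁻¹ * h * c = g⁻¹ * h⁻¹ := by
  rw [← D.cgc, ← D.g_def, show c * (c * h * c⁻¹) * c⁻¹ = c * c * h * (c * c)⁻¹ by group, ← D.c_inv,
    inv_inv]

theorem c_inv_g : c⁻¹ * g * c = h := by
  rw [← D.g_def]; group

theorem w_inv_h : w⁻¹ * h * w = h⁻¹ := by
  calc w⁻¹ * h * w = (w⁻¹ * h⁻¹ * w)⁻¹ := by group
    _ = h⁻¹ := by conv_lhs => rw [← D.whw]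
                  group

theorem c_inv_w_inv : c⁻¹ * w⁻¹ = (g ^ n)⁻¹ * (w * c) := by
  rw [← D.wc_sq]; group

theorem wgw : w * g * w⁻¹ = h * g := by
  have h1 : w * c = g ^ n * (c⁻¹ * w⁻¹) := by rw [D.c_inv_w_inv, mul_inv_cancel_left]
  calc w * g * w⁻¹ = (w * c) * h * (w * c)⁻¹ := by rw [← D.g_def]; group
    _ = g ^ n * (c⁻¹ * (w⁻¹ * h * w) * c) * (g ^ n)⁻¹ := by rw [h1]; group
    _ = g ^ n * (h * g) * (g ^ n)⁻¹ := by
        rw [D.w_inv_h, show c⁻¹ * h⁻¹ * c = (c⁻¹ * h * c)⁻¹ by group, D.c_inv_h]; group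
    _ = h * g := by
        rw [((D.hg.symm.pow_left n).mul_right (Commute.pow_self g n)).eq, mul_inv_cancel_right]

theorem w_inv_g : w⁻¹ * g * w = h * g := by
  calc w⁻¹ * g * w = (w * w)⁻¹ * (w * g * w⁻¹) * (w * w) := by group
    _ = h * g := by
        rw [D.w_sq, D.wgw, mul_assoc,
          ← (((Commute.refl h).pow_left n).mul_right (D.hg.pow_left n)).eq, inv_mul_cancel_left]

theorem hY : Sc h Y ω⁻¹ :=
  (((D.gX.inv (inv_ne_zero D.ω_ne)).mul (D.hX.inv (pow_ne_zero _ D.ω_ne))).congr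
    (by have := D.ω_ne; field_simp)).transfer D.c_inv_h D.Y_def

theorem gY : Sc g Y (ω ^ 2) := D.hX.transfer D.c_inv_g D.Y_def

theorem hZ : Sc h Z ω :=
  ((D.hY.inv (inv_ne_zero D.ω_ne)).congr (inv_inv ω)).transfer D.w_inv_h D.Z_def

theorem gZ : Sc g Z ω :=
  ((D.hY.mul D.gY).congr (by have := D.ω_ne; field_simp)).transfer D.w_inv_g D.Z_def

theorem h_X32 : Sc h (fun a => c * (w * X (-a) * w⁻¹) * c⁻¹) ω := by
  have h1 : Sc h (fun a => w * X (-a) * w⁻¹) ((ω ^ 2)⁻¹) :=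
    (D.hX.inv (pow_ne_zero _ D.ω_ne)).neg.transfer D.w_inv_h fun a => rfl
  have h2 : Sc g (fun a => w * X (-a) * w⁻¹) (ω ^ 2 * ω⁻¹) :=
    (D.hX.mul D.gX).neg.transfer D.w_inv_g fun a => rfl
  refine (((h2.inv ?_).mul (h1.inv ?_)).congr ?_).transfer D.c_inv_h fun a => rfl
  all_goals have := D.ω_ne
  · positivity
  · positivity
  · field_simp

theorem g_X32 : Sc g (fun a => c * (w * X (-a) * w⁻¹) * c⁻¹) ((ω ^ 2)⁻¹) :=
  ((D.hX.inv (pow_ne_zero _ D.ω_ne)).neg.transfer D.w_inv_h fun a => rfl).transfer D.c_inv_g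
    fun a => rfl

theorem ω_two_n : ω ^ (2 * n) = 1 := by rw [mul_comm, pow_mul, D.ω_n, neg_one_sq]

theorem c_X32 (a : F) : c * (c * (w * X (-a) * w⁻¹) * c⁻¹) * c⁻¹ = Z a := by
  have h1 : c⁻¹ * w = (g ^ n)⁻¹ * (w * c * h ^ n) := by
    calc c⁻¹ * w = c⁻¹ * w⁻¹ * (w * w) := by group
      _ = _ := by rw [D.c_inv_w_inv, D.w_sq]; group
  have h2 : h ^ n * X (-a) * (h ^ n)⁻¹ = X (-a) := by
    rw [D.hX.pow n, ← pow_mul, D.ω_two_n, one_mul]
  calc c * (c * (w * X (-a) * w⁻¹) * c⁻¹) * c⁻¹ =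
      ((c * c) * w) * X (-a) * ((c * c) * w)⁻¹ := by group
    _ = (g ^ n)⁻¹ * (w * (c * (h ^ n * X (-a) * (h ^ n)⁻¹) * c⁻¹) * w⁻¹) * g ^ n := by
        rw [← D.c_inv, h1]; group
    _ = (g ^ n)⁻¹ * Z (-a) * g ^ n := by rw [h2, ← D.Y_def, ← D.Z_def]
    _ = Z a := by
        have h3 := ((D.gZ.pow n).inv (pow_ne_zero _ D.ω_ne)) (-a)
        rw [inv_inv] at h3
        rw [h3, D.ω_n, inv_neg, inv_one, neg_mul_neg, one_mul]

theorem c_Z (a : F) : c * Z a * c⁻¹ = w * X (-a) * w⁻¹ := by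
  rw [← D.c_X32]
  calc _ = c * c * c * (w * X (-a) * w⁻¹) * (c * c * c)⁻¹ := by group
    _ = _ := by rw [D.c3]; group

theorem wZw (a : F) : w * Z a * w⁻¹ = Y (-a) := by
  rw [D.Z_def, show w * (w * Y a * w⁻¹) * w⁻¹ = w * w * Y a * (w * w)⁻¹ by group, D.w_sq,
    D.hY.pow n, inv_pow, D.ω_n, inv_neg, inv_one, neg_one_mul]

theorem wvc : w * (c * w * c⁻¹) = g ^ n * c := by
  rw [show w * (c * w * c⁻¹) = (w * c) * (w * c) * (c⁻¹ * c⁻¹) by group, D.wc_sq]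
  congr 1
  rw [D.c_inv, show c * c * (c * c) = c * c * c * c by group, D.c3, one_mul]

end

end Roots

end CfsgLib.SLThreePresent
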